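/-
Systems of transvections given by centre and axis, and their largest classical configuration.
-/
import Mathlib

set_option autoImplicit false

namespace CfsgLib.McL

variable {k : Type*} [Field k] {V : Type*} [AddCommGroup V] [Module k V]

/-- `S x θ`: the map `y ↦ y + θ y • x` is present. -/
structure TSys (S : V → Module.Dual k V → Prop) : Prop where
  null : ∀ {x θ}, S x θ → θ x = 0
  zl : ∀ θ, S 0 θ
  zr : ∀ x, S x 0
  addθ : ∀ {x θ η}, S x θ → S x η → S x (θ + η)
  addx : ∀ {x y θ}, S x θ → S y θ → S (x + y) θ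
  smulθ : ∀ (c : k) {x θ}, S x θ → S x (c • θ)
  smulx : ∀ (c : k) {x θ}, S x θ → S (c • x) θ
  conj : ∀ {x θ y η}, S x θ → S y η → S (y + θ y • x) (η - η x • θ)
  cancel : ∀ {x w θ η}, S (x + w) (θ + η) → S (-x + w) (-θ + η) → S x θ → θ x = 0 → θ w = 0 → η x = 0 →
    η w = 0 → S w η
  opp : ∀ {x θ}, S x θ → x ≠ 0 → θ ≠ 0 → ∃ y η, S y η ∧ θ y ≠ 0 ∧ η x ≠ 0

variable {S : V → Module.Dual k V → Prop}

theorem exists_dual {p : Submodule k V} {x : V} (hx : x ∉ p) :
    ∃ θ : Module.Dual k V, θ x = 1 ∧ ∀ v ∈ p, θ v = 0 := by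
  obtain ⟨f, hf, hf'⟩ := Submodule.exists_dual_map_eq_bot_of_notMem hx inferInstance
  refine ⟨(f x)⁻¹ • f, by simp [hf], fun v hv => ?_⟩
  have h : f v ∈ p.map f := Submodule.mem_map_of_mem hv
  rw [hf', Submodule.mem_bot] at h
  simp [h]

/-- Two functionals on a subspace: either proportional, or one is non-zero on a zero of the other. -/
theorem prop_or_exists {W : Submodule k V} (θ η : Module.Dual k V) (hη : ∃ m ∈ W, η m ≠ 0) :
    (∃ c : k, ∀ v ∈ W, θ v = c * η v) ∨ ∃ m ∈ W, η m = 0 ∧ θ m ≠ 0 := by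
  obtain ⟨m, hm, h⟩ := hη
  by_cases hc : ∀ v ∈ W, η v = 0 → θ v = 0
  · refine Or.inl ⟨θ m / η m, fun v hv => ?_⟩
    have h1 := hc (v - (η v / η m) • m) (W.sub_mem hv (W.smul_mem _ hm)) (by simp [h])
    simp only [map_sub, map_smul, smul_eq_mul, sub_eq_zero] at h1
    rw [h1]; field_simp
  · push Not at hc; exact Or.inr hc

namespace TSys

variable (hS : TSys S)
include hS

theorem negθ {x θ} (h : S x θ) : S x (-θ) := by rw [← neg_one_smul k θ]; exact hS.smulθ (-1) h

theorem negx {x θ} (h : S x θ) : S (-x) θ := by rw [← neg_one_smul k x]; exact hS.smulx (-1) h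

theorem subθ {x θ η} (h : S x θ) (h' : S x η) : S x (θ - η) := by
  rw [sub_eq_add_neg]; exact hS.addθ h (hS.negθ h')

theorem subx {x y θ} (h : S x θ) (h' : S y θ) : S (x - y) θ := by
  rw [sub_eq_add_neg]; exact hS.addx h (hS.negx h')

theorem comm {x θ y η} (h : S x θ) (h' : S y η) (hη : η x = 0) (hθ : θ y ≠ 0) : S x η := by
  have h1 := hS.conj h h'
  rw [hη, zero_smul, sub_zero] at h1
  have h2 := hS.subx h1 h'
  rw [add_sub_cancel_left] at h2
  simpa [smul_smul, hθ] using hS.smulx (θ y)⁻¹ h2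

theorem comm' {x θ y η} (h : S x θ) (h' : S y η) (hθ : θ y = 0) (hη : η x ≠ 0) : S y θ := by
  have h1 := hS.conj h h'
  rw [hθ, zero_smul, add_zero] at h1
  have h2 := hS.subθ h' h1
  rw [sub_sub_cancel] at h2
  simpa [smul_smul, hη] using hS.smulθ (η x)⁻¹ h2

/-- The centres of a given axis. -/
def centres (θ : Module.Dual k V) : Submodule k V where
  carrier := {x | S x θ}
  add_mem' := hS.addx
  zero_mem' := hS.zl θ
  smul_mem' := fun c _ h => hS.smulx c h

/-- The axes of a given centre. -/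
def axes (x : V) : Submodule k (Module.Dual k V) where
  carrier := {θ | S x θ}
  add_mem' := hS.addθ
  zero_mem' := hS.zr x
  smul_mem' := fun c _ h => hS.smulθ c h

end TSys

/-- All transvections of centre `x` vanishing on `U` are present. -/
def Full (S : V → Module.Dual k V → Prop) (U : Submodule k V) (x : V) : Prop :=
  ∀ θ : Module.Dual k V, (∀ u ∈ U, θ u = 0) → θ x = 0 → S x θ

theorem Full.move (hS : TSys S) {U : Submodule k V} {x v : V} {η : Module.Dual k V} (h : Full S U x) (hv : S v η)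
    (hU : ∀ u ∈ U, η u = 0) : Full S U (x + η x • v) := by
  intro θ hθU hθ
  have hη := hS.null hv
  have h1 : S x (θ + θ v • η) := h _ (fun u hu => by simp [hθU u hu, hU u hu]) (by
    rw [map_add, map_smul, smul_eq_mul] at hθ
    rw [LinearMap.add_apply, LinearMap.smul_apply, smul_eq_mul]
    linear_combination hθ)
  have h2 := hS.conj hv h1
  simpa [hη] using h2

/-- A special linear configuration. -/
structure IsSL (S : V → Module.Dual k V → Prop) (W U : Submodule k V) : Prop where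
  compl : IsCompl W U
  dim : 3 ≤ Module.finrank k W
  full : ∀ x ∈ W, Full S U x

/-- The data of a symplectic configuration. -/
structure SpCore (S : V → Module.Dual k V → Prop) (W U : Submodule k V) (B : V →ₗ[k] Module.Dual k V) : Prop where
  compl : IsCompl W U
  alt : ∀ x, B x x = 0
  rad : ∀ u ∈ U, B u = 0
  nondeg : ∀ x ∈ W, B x = 0 → x = 0
  mem : ∀ x ∈ W, S x (B x)

/-- A classical configuration together with its size. -/
def Cfg (S : V → Module.Dual k V → Prop) (W U : Submodule k V) (r : ℕ) : Prop :=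
  (IsSL S W U ∧ r = 2 * Module.finrank k W + 1) ∨
    ∃ B, SpCore S W U B ∧ 2 ≤ Module.finrank k W ∧ r = 2 * Module.finrank k W

theorem alt_skew {B : V →ₗ[k] Module.Dual k V} (h : ∀ x, B x x = 0) (x y : V) : B x y = - B y x := by
  have := h (x + y)
  simp only [map_add, LinearMap.add_apply, h, zero_add, add_zero] at this
  linear_combination this

namespace SpCore

variable {W U : Submodule k V} {B : V →ₗ[k] Module.Dual k V} (hC : SpCore S W U B)
include hC

theorem kills (x : V) {u : V} (hu : u ∈ U) : B x u = 0 := by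
  rw [alt_skew hC.alt, hC.rad u hu, LinearMap.zero_apply, neg_zero]

theorem exists_ne {x : V} (hx : x ∈ W) (h0 : x ≠ 0) : ∃ m ∈ W, B x m ≠ 0 := by
  by_contra hc
  push Not at hc
  refine h0 (hC.nondeg x hx (LinearMap.ext fun v => ?_))
  obtain ⟨a, ha, u, hu, rfl⟩ : ∃ a ∈ W, ∃ u ∈ U, a + u = v :=
    Submodule.mem_sup.mp (hC.compl.sup_eq_top ▸ Submodule.mem_top)
  rw [map_add, hc a ha, hC.kills x hu, add_zero, LinearMap.zero_apply]

theorem surj [FiniteDimensional k V] {θ : Module.Dual k V} (hθ : ∀ u ∈ U, θ u = 0) : ∃ u ∈ W, θ = B u := by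
  have hle : W.map B ≤ U.dualAnnihilator := by
    rintro _ ⟨x, -, rfl⟩
    exact (Submodule.mem_dualAnnihilator _).mpr fun u hu => hC.kills x hu
  have hker : W ⊓ LinearMap.ker B = ⊥ := by
    rw [eq_bot_iff]; rintro x ⟨hx, hx'⟩; exact (Submodule.mem_bot k).mpr (hC.nondeg x hx hx')
  have h1 : Module.finrank k (W.map B) = Module.finrank k W := by
    have hr := LinearMap.finrank_range_add_finrank_ker (B.domRestrict W)
    have hk : LinearMap.ker (B.domRestrict W) = ⊥ := by
      rw [eq_bot_iff]; intro x hx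
      exact (Submodule.mem_bot k).mpr (Subtype.ext (hC.nondeg x x.2 hx))
    rw [hk, finrank_bot, add_zero, LinearMap.range_domRestrict] at hr
    exact hr
  have h2 := Subspace.finrank_add_finrank_dualAnnihilator_eq U
  have h3 := Submodule.finrank_add_eq_of_isCompl hC.compl
  have e : W.map B = U.dualAnnihilator := Submodule.eq_of_le_of_finrank_le hle (by omega)
  obtain ⟨u, hu, e'⟩ : θ ∈ W.map B := e ▸ (Submodule.mem_dualAnnihilator θ).mpr hθ
  exact ⟨u, hu, e'.symm⟩

/-- `W` is spanned by the vectors outside any proper hyperplane `B · y = 0`. -/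
theorem le_of_forall {y : V} (hy : ∃ m ∈ W, B m y ≠ 0) {P : Submodule k V}
    (h : ∀ v ∈ W, B v y ≠ 0 → v ∈ P) : W ≤ P := by
  obtain ⟨m, hm, hmy⟩ := hy
  intro v hv
  by_cases h0 : B v y = 0
  · have := h (v + m) (W.add_mem hv hm) (by simpa [h0] using hmy)
    simpa using P.sub_mem this (h m hm hmy)
  · exact h v hv h0

end SpCore

theorem split_of_isCompl {W U : Submodule k V} (hc : IsCompl W U) (v : V) : ∃ a ∈ W, ∃ u ∈ U, v = a + u := by
  obtain ⟨a, ha, u, hu, e⟩ := Submodule.mem_sup.mp (hc.sup_eq_top ▸ Submodule.mem_top : v ∈ W ⊔ U)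
  exact ⟨a, ha, u, hu, e.symm⟩

theorem eq_zero_of_isCompl {W U : Submodule k V} (hc : IsCompl W U) {θ : Module.Dual k V}
    (hW : ∀ v ∈ W, θ v = 0) (hU : ∀ v ∈ U, θ v = 0) : θ = 0 := by
  refine LinearMap.ext fun v => ?_
  obtain ⟨a, ha, u, hu, rfl⟩ := split_of_isCompl hc v
  simp [hW a ha, hU u hu]

theorem exists_restrict {W U : Submodule k V} (hc : IsCompl W U) (θ : Module.Dual k V) :
    ∃ θ₁ : Module.Dual k V, (∀ u ∈ U, θ₁ u = 0) ∧ ∀ w ∈ W, θ₁ w = θ w :=
  ⟨θ ∘ₗ W.projection U hc, fun u hu => by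
    simp [(Submodule.projection_apply_eq_zero_iff hc).mpr hu], fun w hw => by
    rw [LinearMap.comp_apply]; exact congrArg θ (Submodule.projection_apply_left hc ⟨w, hw⟩)⟩

/-- The vectors of `W` with full axes form a subspace. -/
theorem le_fullSpan (hS : TSys S) {W U : Submodule k V} (hc : IsCompl W U) :
    ∃ P : Submodule k V, P ≤ W ∧ ∀ x, x ∈ P ↔ x ∈ W ∧ Full S U x := by
  have hsm : ∀ (c : k) {x}, Full S U x → Full S U (c • x) := fun c {x} h θ hU hθ => by
    by_cases hc0 : c = 0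
    · rw [hc0, zero_smul]; exact hS.zl θ
    rw [map_smul, smul_eq_mul, mul_eq_zero] at hθ
    exact hS.smulx c (h θ hU (hθ.resolve_left hc0))
  refine ⟨{ carrier := {x | x ∈ W ∧ Full S U x}
            zero_mem' := ⟨W.zero_mem, fun θ _ _ => hS.zl θ⟩
            smul_mem' := fun c x hx => ⟨W.smul_mem c hx.1, hsm c hx.2⟩
            add_mem' := fun {y x} hy hx => ⟨W.add_mem hy.1 hx.1, ?_⟩ }, fun x hx => hx.1, fun x => Iff.rfl⟩
  by_cases hyx : y ∈ U ⊔ Submodule.span k {x}
  · obtain ⟨u, hu, z, hz, e⟩ := Submodule.mem_sup.mp hyx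
    obtain ⟨a, rfl⟩ := Submodule.mem_span_singleton.mp hz
    have hu' : u ∈ W := by
      rw [show u = y - a • x by rw [← e]; abel]; exact W.sub_mem hy.1 (W.smul_mem a hx.1)
    have : u = 0 := Submodule.disjoint_def.mp hc.disjoint u hu' hu
    rw [← e, this, zero_add, show a • x + x = (a + 1) • x by rw [add_smul, one_smul]]
    exact hsm _ hx.2
  · obtain ⟨θ, hθy, hθ⟩ := exists_dual hyx
    have hθU : ∀ u ∈ U, θ u = 0 := fun u hu => hθ u (Submodule.mem_sup_left hu)
    have hθx : θ x = 0 := hθ x (Submodule.mem_sup_right (Submodule.mem_span_singleton_self x))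
    have h := hy.2.move hS (hx.2 θ hθU hθx) hθU
    rwa [hθy, one_smul] at h

/-- A transvection outside with non-zero pairing of the outer parts enlarges to a special linear configuration. -/
theorem extendSL [FiniteDimensional k V] (hS : TSys S) {W U : Submodule k V} (hc : IsCompl W U)
    (hdim : 2 ≤ Module.finrank k W) {w1 w0 : V} {ψ : Module.Dual k V} (hw1 : w1 ∈ W) (hw0 : w0 ∈ U)
    (hb : S (w1 + w0) ψ) (hne : ψ w0 ≠ 0)
    (hA : ∀ θ : Module.Dual k V, (∀ u ∈ U, θ u = 0) → θ w1 = 0 → S (w1 + w0) θ)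
    (hB : ∀ P : Submodule k V, (∀ v ∈ W, ∀ θ, S v θ → (∀ u ∈ U, θ u = 0) → θ w1 ≠ 0 → v ∈ P) → W ≤ P) :
    ∃ W' U', Cfg S W' U' (2 * (Module.finrank k W + 1) + 1) := by
  set w := w1 + w0 with hw
  set W' := W ⊔ Submodule.span k {w0} with hW'
  set U' := U ⊓ LinearMap.ker ψ with hU'
  have hc' : IsCompl W' U' := by
    constructor
    · rw [Submodule.disjoint_def]
      rintro z hz ⟨hzU, hzψ⟩
      obtain ⟨a, ha, b, hb', rfl⟩ := Submodule.mem_sup.mp hz
      obtain ⟨c, rfl⟩ := Submodule.mem_span_singleton.mp hb'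
      have ha0 : a = 0 := Submodule.disjoint_def.mp hc.disjoint a ha (by
        simpa using U.sub_mem hzU (U.smul_mem c hw0))
      subst ha0
      replace hzψ : c * ψ w0 = 0 := by simpa using hzψ
      rw [mul_eq_zero] at hzψ
      rw [zero_add, hzψ.resolve_right hne, zero_smul]
    · rw [codisjoint_iff, eq_top_iff]
      intro z _
      obtain ⟨a, ha, u, hu, rfl⟩ := split_of_isCompl hc z
      rw [show a + u = (a + (ψ u / ψ w0) • w0) + (u - (ψ u / ψ w0) • w0) by abel]
      exact Submodule.add_mem_sup (Submodule.add_mem_sup ha (Submodule.smul_mem _ _ (Submodule.mem_span_singleton_self _)))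
        ⟨U.sub_mem hu (U.smul_mem _ hw0), by simp [hne]⟩
  have hw0ne : w0 ≠ 0 := fun e => hne (by rw [e, map_zero])
  have hfr : Module.finrank k W' = Module.finrank k W + 1 := by
    have h := Submodule.finrank_sup_add_finrank_inf_eq W (Submodule.span k {w0})
    have h0 : W ⊓ Submodule.span k {w0} = ⊥ := by
      rw [eq_bot_iff]
      rintro z ⟨hz, hz'⟩
      obtain ⟨c, rfl⟩ := Submodule.mem_span_singleton.mp hz'
      exact (Submodule.mem_bot k).mpr (Submodule.disjoint_def.mp hc.disjoint _ hz (U.smul_mem c hw0))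
    rw [h0, finrank_bot, add_zero, finrank_span_singleton hw0ne] at h
    exact h
  have hwW : w ∈ W' := Submodule.add_mem_sup hw1 (Submodule.mem_span_singleton_self _)
  have hψw := hS.null hb
  have hfull : Full S U' w := by
    intro θ hθU hθw
    set a := θ w0 / ψ w0
    have ha0 : (θ - a • ψ) w0 = 0 := by simp [a, hne]
    have h1 : S w (θ - a • ψ) := by
      refine hA _ (fun u hu => ?_) ?_
      · have hu' : u - (ψ u / ψ w0) • w0 ∈ U' := ⟨U.sub_mem hu (U.smul_mem _ hw0), by simp [hne]⟩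
        have h2 := hθU _ hu'
        simp only [map_sub, map_smul, smul_eq_mul, sub_eq_zero] at h2
        simp only [LinearMap.sub_apply, LinearMap.smul_apply, smul_eq_mul, h2, a]
        field_simp; ring
      · have h2 : (θ - a • ψ) w = 0 := by simp [hθw, hψw]
        rwa [hw, map_add, ha0, add_zero] at h2
    simpa using hS.addθ h1 (hS.smulθ a hb)
  obtain ⟨P, hPW, hP⟩ := le_fullSpan hS hc'
  have hwP : w ∈ P := (hP w).mpr ⟨hwW, hfull⟩
  have hWP : W ≤ P := hB P fun v hv θ hθ hθU hθ1 => by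
    have hθw : θ w ≠ 0 := by rw [hw, map_add, hθU w0 hw0, add_zero]; exact hθ1
    have h := hfull.move hS hθ fun u hu => hθU u hu.1
    have hm : w + θ w • v ∈ P :=
      (hP _).mpr ⟨W'.add_mem hwW (Submodule.mem_sup_left (W.smul_mem _ hv)), h⟩
    simpa [smul_smul, hθw] using P.smul_mem (θ w)⁻¹ (P.sub_mem hm hwP)
  have hw0P : w0 ∈ P := by simpa [hw] using P.sub_mem hwP (hWP hw1)
  have hle : W' ≤ P := sup_le hWP (by rwa [Submodule.span_singleton_le_iff_mem])
  exact ⟨W', U', Or.inl ⟨⟨hc', by omega, fun x hx => ((hP x).mp (hle hx)).2⟩, by rw [hfr]⟩⟩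

end CfsgLib.McL
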