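/-
Enlarging a symplectic configuration.
-/
import Mathlib
import Cfsg.Agent.Lib.RootSub.McL.Sys

set_option autoImplicit false

namespace CfsgLib.McL

variable {k : Type*} [Field k] {V : Type*} [AddCommGroup V] [Module k V] [FiniteDimensional k V]
variable {S : V → Module.Dual k V → Prop}

omit [FiniteDimensional k V] in
/-- A property closed under moving along non-orthogonal directions holds on all non-zero vectors. -/
theorem move_all {B : V →ₗ[k] Module.Dual k V} (hB : ∀ x, B x x = 0) {W : Submodule k V}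
    (hW : ∀ x ∈ W, x ≠ 0 → ∃ m ∈ W, B x m ≠ 0) (Pp : V → Prop)
    (hstep : ∀ z ∈ W, ∀ v ∈ W, B v z ≠ 0 → Pp z → ∀ s : k, Pp (z + s • v)) {x x' : V} (hx : x ∈ W) (hx0 : x ≠ 0)
    (hx' : x' ∈ W) (hx'0 : x' ≠ 0) (h : Pp x) : Pp x' := by
  obtain ⟨m1, hm1, e1⟩ := hW x hx hx0
  obtain ⟨m2, hm2, e2⟩ := hW x' hx' hx'0
  obtain ⟨m, hm, a, b⟩ : ∃ m ∈ W, B x m ≠ 0 ∧ B x' m ≠ 0 := by
    by_cases c1 : B x' m1 = 0
    · by_cases c2 : B x m2 = 0
      · exact ⟨m1 + m2, W.add_mem hm1 hm2, by simp [c2, e1], by simp [c1, e2]⟩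
      · exact ⟨m2, hm2, c2, e2⟩
    · exact ⟨m1, hm1, e1, c1⟩
  have h1 := hstep x hx (m - x) (W.sub_mem hm hx) (by rw [map_sub]; simp [hB, alt_skew hB m x, a]) h 1
  rw [one_smul, add_sub_cancel] at h1
  have h2 := hstep m hm (x' - m) (W.sub_mem hx' hm) (by rw [map_sub]; simp [hB, b]) h1 1
  rwa [one_smul, add_sub_cancel] at h2

/-- Splitting off the outer part of a mixed transvection. -/
theorem detach (hS : TSys S) {W U : Submodule k V} {B : V →ₗ[k] Module.Dual k V}
    (hC : SpCore S W U B) {x w0 : V} {φ : Module.Dual k V} (hx : x ∈ W) (hx0 : x ≠ 0) (hw0 : w0 ∈ U)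
    (hφ : ∀ v ∈ W, φ v = 0) (hφw : φ w0 = 0) (hb : S (x + w0) (B x + φ)) :
    S w0 φ ∧ ∀ z ∈ W, z ≠ 0 → S (z + w0) (B z + φ) := by
  have hall : ∀ z ∈ W, z ≠ 0 → S (z + w0) (B z + φ) := by
    intro z hz hz0
    refine move_all hC.alt (fun a ha ha0 => hC.exists_ne ha ha0) (fun z => S (z + w0) (B z + φ))
      (fun z hz v hv hne h s => ?_) hx hx0 hz hz0 hb
    have h1 := hS.conj (hS.smulθ (s / B v z) (hC.mem v hv)) h
    have e1 : (B z + φ) v = B z v := by simp [hφ v hv]
    have e2 : ((s / B v z) • B v) (z + w0) = s := by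
      simp [hC.kills v hw0, hne]
    rw [e1, e2] at h1
    convert h1 using 1
    · abel
    · rw [map_add, map_smul, alt_skew hC.alt z v, smul_smul, neg_mul, neg_smul, sub_neg_eq_add,
        mul_div_cancel₀ s hne]
      abel
  refine ⟨hS.cancel hb ?_ (hC.mem x hx) (hC.alt x) (hC.kills x hw0) (hφ x hx) hφw, hall⟩
  have := hall (-x) (W.neg_mem hx) (neg_ne_zero.mpr hx0)
  rwa [map_neg] at this

/-- An opposite pair in the complement enlarges a symplectic configuration. -/
theorem extendSp (hS : TSys S) {W U : Submodule k V} {B : V →ₗ[k] Module.Dual k V} (hC : SpCore S W U B)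
    {w0 y0 : V} {φ η : Module.Dual k V} (hw0 : w0 ∈ U) (hy0 : y0 ∈ U) (hφ : ∀ v ∈ W, φ v = 0)
    (hη : ∀ v ∈ W, η v = 0) (ha : S w0 φ) (hb : S y0 η) (hp : φ y0 ≠ 0) (hq : η w0 ≠ 0)
    (hmix : ∀ x ∈ W, x ≠ 0 → S (x + w0) (B x + φ)) :
    ∃ W' U' B', SpCore S W' U' B' ∧ Module.finrank k W' = Module.finrank k W + 2 := by
  have hφw := hS.null ha
  have hηy := hS.null hb
  set P := Submodule.span k ({w0, y0} : Set V) with hP
  have hPU : P ≤ U := by rw [hP, Submodule.span_le]; rintro _ (rfl | rfl) <;> assumption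
  have memP : ∀ z ∈ P, ∃ c1 c2 : k, z = c1 • w0 + c2 • y0 := fun z hz => by
    obtain ⟨c1, c2, e⟩ := Submodule.mem_span_pair.mp hz; exact ⟨c1, c2, e.symm⟩
  set lam := -(η w0)⁻¹ with hlam
  set B' : V →ₗ[k] Module.Dual k V := B + lam • (φ.smulRight η - η.smulRight φ) with hB'
  have Bap : ∀ z, B' z = B z + lam • (φ z • η - η z • φ) := fun z => rfl
  have alt' : ∀ z, B' z z = 0 := fun z => by simp [Bap, hC.alt, mul_comm]
  have Bw0 : B' w0 = φ := by simp [Bap, hC.rad w0 hw0, hφw, hlam, smul_smul, hq]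
  have By0 : B' y0 = (lam * φ y0) • η := by simp [Bap, hC.rad y0 hy0, hηy, smul_smul]
  have BW : ∀ z ∈ W, B' z = B z := fun z hz => by simp [Bap, hφ z hz, hη z hz]
  have Bp : ∀ q ∈ P, ∀ v ∈ W, B' v q = 0 := fun q hq v hv => by rw [BW v hv]; exact hC.kills v (hPU hq)
  set W' := W ⊔ P
  set U' := U ⊓ LinearMap.ker φ ⊓ LinearMap.ker η with hU'
  have line : ∀ {z z' : V}, S z (B' z) → S z' (B' z') → B' z z' ≠ 0 → ∀ s : k, S (z' + s • z) (B' (z' + s • z)) := by
    intro z z' hz hz' hne s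
    have h1 := hS.conj (hS.smulθ (s / B' z z') hz) hz'
    have e2 : ((s / B' z z') • B' z) z' = s := by simp [hne]
    rw [e2] at h1
    convert h1 using 1
    rw [map_add, map_smul, alt_skew alt' z' z, smul_smul, neg_mul, neg_smul, sub_neg_eq_add, mul_div_cancel₀ s hne]
  have both : ∀ (c : k) {z : V}, S z (B' z) → S (c • z) (B' (c • z)) := fun c {z} h => by
    rw [map_smul]; exact hS.smulx c (hS.smulθ c h)
  have hw0C : S w0 (B' w0) := by rw [Bw0]; exact ha
  have hy0C : S y0 (B' y0) := by rw [By0]; exact hS.smulθ _ hb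
  have hwy : B' w0 y0 ≠ 0 := by rw [Bw0]; exact hp
  have hPC : ∀ q ∈ P, S q (B' q) := by
    intro q hq
    obtain ⟨c1, c2, rfl⟩ := memP q hq
    by_cases hc : c2 = 0
    · rw [hc, zero_smul, add_zero]; exact both c1 hw0C
    · have := both c2 (line hw0C hy0C hwy (c1 / c2))
      rwa [smul_add, smul_smul, mul_div_cancel₀ c1 hc, add_comm] at this
  have hWC : ∀ x ∈ W, S x (B' x) := fun x hx => by rw [BW x hx]; exact hC.mem x hx
  have hmixC : ∀ x ∈ W, x ≠ 0 → ∀ q ∈ P, q ≠ 0 → S (x + q) (B' (x + q)) := by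
    have hq0' := hq
    intro x hx hx0 q hq hq0
    have hn : ∀ q ∈ P, q ≠ 0 → ∃ m ∈ P, B' q m ≠ 0 := by
      intro q hq hq0
      obtain ⟨c1, c2, rfl⟩ := memP q hq
      by_cases hc : c1 = 0
      · have hc2 : c2 ≠ 0 := fun e => hq0 (by simp [hc, e])
        refine ⟨w0, Submodule.subset_span (by simp), ?_⟩
        have hl : lam * φ y0 * η w0 ≠ 0 := mul_ne_zero (mul_ne_zero (by rw [hlam]; exact neg_ne_zero.mpr (inv_ne_zero (by assumption))) hp) (by assumption)
        simpa [hc, By0, hc2] using hl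
      · exact ⟨y0, Submodule.subset_span (by simp), by simp [Bw0, By0, hηy, hc, hp]⟩
    refine move_all alt' hn (fun q => S (x + q) (B' (x + q))) (fun z hz v hv hne h s => ?_)
      (Submodule.subset_span (Set.mem_insert w0 {y0})) (fun e => hq0' (by rw [e, map_zero])) hq hq0 ?_
    · have h0 : B' v (x + z) = B' v z := by
        rw [map_add, alt_skew alt' v x, Bp v hv x hx, neg_zero, zero_add]
      rw [← add_assoc]
      exact line (hPC v hv) h (h0.symm ▸ hne) s
    · rw [map_add, BW x hx, Bw0]; exact hmix x hx hx0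
  have hdisj : W ⊓ P = ⊥ := by
    rw [eq_bot_iff]; rintro z ⟨h1, h2⟩
    exact (Submodule.mem_bot k).mpr (Submodule.disjoint_def.mp hC.compl.disjoint z h1 (hPU h2))
  have hfrP : Module.finrank k P = 2 := by
    have hli : LinearIndependent k ![w0, y0] := LinearIndependent.pair_iff.mpr fun a b hab => by
      have h1 := congrArg φ hab
      have h2 := congrArg η hab
      simp only [map_add, map_smul, map_zero, smul_eq_mul, hφw, hηy, mul_zero, zero_add, add_zero,
        mul_eq_zero] at h1 h2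
      exact ⟨h2.resolve_right hq, h1.resolve_right hp⟩
    have h := finrank_span_eq_card hli
    rwa [Matrix.range_cons, Matrix.range_cons, Matrix.range_empty, Set.union_empty, Set.singleton_union,
      Fintype.card_fin] at h
  refine ⟨W', U', B', ⟨⟨?_, ?_⟩, alt', fun u hu => ?_, fun z hz h0 => ?_, fun z hz => ?_⟩, ?_⟩
  · rw [Submodule.disjoint_def]
    rintro z hz ⟨⟨hzU, hzφ⟩, hzη⟩
    obtain ⟨a, ha', q, hq', rfl⟩ := Submodule.mem_sup.mp hz
    have ha0 : a = 0 := Submodule.disjoint_def.mp hC.compl.disjoint a ha' (by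
      simpa using U.sub_mem hzU (hPU hq'))
    obtain ⟨c1, c2, rfl⟩ := memP q hq'
    subst ha0
    have h1 : c2 = 0 := by simpa [hφw, hp] using hzφ
    have h2 : c1 = 0 := by simpa [hηy, hq] using hzη
    simp [h1, h2]
  · rw [codisjoint_iff, eq_top_iff]
    intro z _
    obtain ⟨a, ha', u, hu, rfl⟩ := split_of_isCompl hC.compl z
    set q := (η u / η w0) • w0 + (φ u / φ y0) • y0 with hqd
    have hqP : q ∈ P := Submodule.mem_span_pair.mpr ⟨_, _, rfl⟩
    rw [show a + u = (a + q) + (u - q) by abel]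
    exact Submodule.add_mem_sup (Submodule.add_mem_sup ha' hqP)
      ⟨⟨U.sub_mem hu (hPU hqP), by simp [hqd, hφw, hp]⟩, by simp [hqd, hηy, hq]⟩
  · obtain ⟨⟨hu1, hu2⟩, hu3⟩ := hu
    simp [Bap, hC.rad u hu1, LinearMap.mem_ker.mp hu2, LinearMap.mem_ker.mp hu3]
  · obtain ⟨a, ha', q, hq', rfl⟩ := Submodule.mem_sup.mp hz
    obtain ⟨c1, c2, rfl⟩ := memP q hq'
    rw [map_add, BW a ha', map_add, map_smul, map_smul, Bw0, By0] at h0
    have h1 : c1 = 0 := by
      have := LinearMap.congr_fun h0 y0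
      simpa [hC.kills a hy0, hηy, hp] using this
    have h2 : c2 = 0 := by
      have := LinearMap.congr_fun h0 w0
      simpa [hC.kills a hw0, hφw, hlam, hp, hq] using this
    simp only [h1, h2, zero_smul, add_zero] at h0 ⊢
    exact hC.nondeg a ha' h0
  · obtain ⟨a, ha', q, hq', rfl⟩ := Submodule.mem_sup.mp hz
    by_cases ha0 : a = 0
    · rw [ha0, zero_add]; exact hPC q hq'
    by_cases hq0 : q = 0
    · rw [hq0, add_zero]; exact hWC a ha'
    exact hmixC a ha' ha0 q hq' hq0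
  · have h := Submodule.finrank_sup_add_finrank_inf_eq W P
    rw [hdisj, finrank_bot, add_zero, hfrP] at h
    exact h

end CfsgLib.McL
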