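/-
Every member lies inside or outside a largest configuration.
-/
import Mathlib
import Cfsg.Agent.Lib.RootSub.McL.Extend

set_option autoImplicit false

namespace CfsgLib.McL

variable {k : Type*} [Field k] {V : Type*} [AddCommGroup V] [Module k V] [FiniteDimensional k V]
variable {S : V → Module.Dual k V → Prop} {W U : Submodule k V} {r : ℕ}

/-- A largest configuration. -/
def IsMax (S : V → Module.Dual k V → Prop) (W U : Submodule k V) (r : ℕ) : Prop :=
  Cfg S W U r ∧ ∀ W' U' r', Cfg S W' U' r' → r' ≤ r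

theorem Cfg.compl (h : Cfg S W U r) : IsCompl W U := by
  rcases h with ⟨h, -⟩ | ⟨B, h, -⟩ <;> exact h.compl

theorem Cfg.dim (h : Cfg S W U r) : 2 ≤ Module.finrank k W ∧ r ≤ 2 * Module.finrank k W + 1 := by
  rcases h with ⟨h, e⟩ | ⟨B, -, h, e⟩
  · have := h.dim; omega
  · omega

theorem noI (hS : TSys S) (hM : IsMax S W U r) {w1 w0 : V} {ψ : Module.Dual k V} (hw1 : w1 ∈ W) (hw0 : w0 ∈ U)
    (hb : S (w1 + w0) ψ) : ψ w0 = 0 := by
  by_contra hne
  have h1 : ψ w1 ≠ 0 := fun e => hne (by have := hS.null hb; rwa [map_add, e, zero_add] at this)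
  have hw1ne : w1 ≠ 0 := fun e => h1 (by rw [e, map_zero])
  obtain ⟨hd, hr⟩ := hM.1.dim
  suffices H : (∀ θ : Module.Dual k V, (∀ u ∈ U, θ u = 0) → θ w1 = 0 → S (w1 + w0) θ) ∧
      ∀ P : Submodule k V, (∀ v ∈ W, ∀ θ, S v θ → (∀ u ∈ U, θ u = 0) → θ w1 ≠ 0 → v ∈ P) → W ≤ P by
    obtain ⟨W', U', h⟩ := extendSL hS hM.1.compl hd hw1 hw0 hb hne H.1 H.2
    have := hM.2 _ _ _ h
    omega
  rcases hM.1 with ⟨h, -⟩ | ⟨B, h, -, -⟩
  · refine ⟨fun θ hθU hθ => hS.comm hb (h.full w1 hw1 θ hθU hθ) (by simp [hθ, hθU w0 hw0]) h1, fun P hP => ?_⟩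
    have key : ∀ v ∈ W, v ∉ Submodule.span k {w1} → v ∈ P := by
      intro v hv hv'
      have hw : w1 ∉ U ⊔ Submodule.span k {v} := by
        intro hmem
        obtain ⟨u, hu, z, hz, e⟩ := Submodule.mem_sup.mp hmem
        obtain ⟨a, rfl⟩ := Submodule.mem_span_singleton.mp hz
        have hu0 : u = 0 := Submodule.disjoint_def.mp h.compl.disjoint u
          (by rw [show u = w1 - a • v by rw [← e]; abel]; exact W.sub_mem hw1 (W.smul_mem a hv)) hu
        rw [hu0, zero_add] at e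
        have ha : a ≠ 0 := fun e0 => hw1ne (by rw [← e, e0, zero_smul])
        exact hv' (Submodule.mem_span_singleton.mpr ⟨a⁻¹, by rw [← e, smul_smul, inv_mul_cancel₀ ha, one_smul]⟩)
      obtain ⟨θ, hθ1, hθ⟩ := exists_dual hw
      have hθU : ∀ u ∈ U, θ u = 0 := fun u hu => hθ u (Submodule.mem_sup_left hu)
      exact hP v hv θ (h.full v hv θ hθU (hθ v (Submodule.mem_sup_right (Submodule.mem_span_singleton_self v)))) hθU
        (by rw [hθ1]; exact one_ne_zero)
    intro v hv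
    by_cases hv' : v ∈ Submodule.span k {w1}
    · obtain ⟨m, hm, hm'⟩ : ∃ m ∈ W, m ∉ Submodule.span k {w1} := by
        by_contra hc
        push Not at hc
        have := Submodule.finrank_mono (show W ≤ Submodule.span k {w1} from hc)
        rw [finrank_span_singleton hw1ne] at this
        have := h.dim
        omega
      simpa using P.sub_mem (key (v + m) (W.add_mem hv hm) fun e => hm' (by
        simpa using (Submodule.span k {w1}).sub_mem e hv')) (key m hm hm')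
    · exact key v hv hv'
  · have hcomm : ∀ v ∈ W, B v w1 = 0 → ψ v ≠ 0 → S (w1 + w0) (B v) := fun v hv hv1 hne =>
      hS.comm hb (h.mem v hv) (by simp [hv1, h.kills v hw0]) hne
    refine ⟨fun θ hθU hθ => ?_, fun P hP => ?_⟩
    · obtain ⟨u, hu, rfl⟩ := h.surj hθU
      by_cases hu' : ψ u = 0
      · have a := hcomm (u + w1) (W.add_mem hu hw1) (by simp [hθ, h.alt]) (by simp [hu', h1])
        have b := hcomm w1 hw1 (h.alt w1) h1
        simpa using hS.subθ a b
      · exact hcomm u hu hθ hu'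
    · obtain ⟨m, hm, hm'⟩ := h.exists_ne hw1 hw1ne
      refine h.le_of_forall ⟨m, hm, ?_⟩ fun v hv hne => hP v hv _ (h.mem v hv) (fun u hu => h.kills v hu) hne
      rw [alt_skew h.alt]; exact neg_ne_zero.mpr hm'

theorem noMixed3 (hS : TSys S) (hM : IsMax S W U r) {w : V} {θ : Module.Dual k V} (hw : w ∈ U)
    (hθ : ∀ u ∈ U, θ u = 0) (h : S w θ) : w = 0 ∨ θ = 0 := by
  by_contra hne
  rw [not_or] at hne
  obtain ⟨y, η, hy, h1, h2⟩ := hS.opp h hne.1 hne.2
  obtain ⟨a, ha, u, hu, rfl⟩ := split_of_isCompl hM.1.compl y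
  have hηu := noI hS hM ha hu hy
  have hc := hS.conj h hy
  rw [add_assoc] at hc
  have := noI hS hM ha (U.add_mem hu (U.smul_mem _ hw)) hc
  simp only [map_add, map_smul, LinearMap.sub_apply, LinearMap.smul_apply, smul_eq_mul, hηu, hθ u hu, hθ w hw,
    zero_sub, mul_zero, sub_zero, zero_add, zero_mul, neg_zero] at this
  rw [map_add, hθ u hu, add_zero] at h1
  exact mul_ne_zero h1 h2 (by rwa [add_zero] at this)

theorem noMixed4 (hS : TSys S) (hM : IsMax S W U r) {y : V} {ψ : Module.Dual k V} (hy : y ∈ W)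
    (hψ : ∀ v ∈ W, ψ v = 0) (h : S y ψ) : y = 0 ∨ ψ = 0 := by
  by_contra hne
  rw [not_or] at hne
  obtain ⟨z, η, hz, h1, h2⟩ := hS.opp h hne.1 hne.2
  obtain ⟨a, ha, u, hu, rfl⟩ := split_of_isCompl hM.1.compl z
  have hηu := noI hS hM ha hu hz
  have hc := hS.conj h hz
  rw [add_right_comm] at hc
  have := noI hS hM (W.add_mem ha (W.smul_mem _ hy)) hu hc
  rw [map_add, hψ a ha, zero_add] at h1
  simp only [LinearMap.sub_apply, LinearMap.smul_apply, smul_eq_mul, hηu, zero_sub, neg_eq_zero, mul_eq_zero] at this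
  exact this.elim h2 h1

theorem noSL (hS : TSys S) {B : V →ₗ[k] Module.Dual k V} (hC : SpCore S W U B)
    (hmax : ∀ W' U' r', Cfg S W' U' r' → r' ≤ 2 * Module.finrank k W) {x u : V} (hx : x ∈ W) (hx0 : x ≠ 0)
    (hu : u ∈ W) (hux : B u x = 0) (h : S x (B u)) : ∃ c : k, u = c • x := by
  by_contra hne
  push Not at hne
  obtain ⟨m1, hm1, hm1'⟩ := hC.exists_ne hx hx0
  have hdim : 3 ≤ Module.finrank k W := by
    by_contra hd
    have hli : LinearIndependent k ![x, u] := by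
      rw [LinearIndependent.pair_iff]
      intro a b hab
      by_cases hb : b = 0
      · exact ⟨by simpa [hb, hx0] using hab, hb⟩
      · exfalso
        refine hne (-(a / b)) ?_
        have h1 := congrArg (fun z => b⁻¹ • z) hab
        simp only [smul_add, smul_smul, inv_mul_cancel₀ hb, one_smul, smul_zero] at h1
        rw [eq_neg_of_add_eq_zero_right h1, neg_smul, div_eq_inv_mul]
    have h2 := finrank_span_eq_card hli
    rw [Fintype.card_fin] at h2
    have hle : Submodule.span k (Set.range ![x, u]) ≤ W := by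
      rw [Submodule.span_le]; rintro _ ⟨i, rfl⟩; fin_cases i <;> assumption
    have e := Submodule.eq_of_le_of_finrank_le hle (by omega)
    have hle' : Submodule.span k (Set.range ![x, u]) ≤ LinearMap.ker (B x) := by
      rw [Submodule.span_le]
      rintro _ ⟨i, rfl⟩
      fin_cases i
      · exact hC.alt x
      · show B x u = 0
        rw [alt_skew hC.alt, hux, neg_zero]
    exact hm1' (hle' (e ▸ hm1))
  have hfull : Full S U x := by
    intro θ hθU hθ
    obtain ⟨v, hv, rfl⟩ := hC.surj hθU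
    have key : ∀ v ∈ W, B v x = 0 → B u v ≠ 0 → S x (B v) := fun v hv a b => hS.comm h (hC.mem v hv) a b
    by_cases hb : B u v = 0
    · rcases prop_or_exists (B u) (B x) ⟨m1, hm1, hm1'⟩ with ⟨c, hc⟩ | ⟨m, hm, e1, e2⟩
      · refine absurd ?_ (hne c)
        rw [← sub_eq_zero]
        refine hC.nondeg _ (W.sub_mem hu (W.smul_mem c hx)) (eq_zero_of_isCompl hC.compl (fun z hz => ?_)
          (fun z hz => hC.kills _ hz))
        simp [hc z hz]
      · have e1' : B m x = 0 := by rw [alt_skew hC.alt, e1, neg_zero]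
        simpa using hS.subθ (key (v + m) (W.add_mem hv hm) (by simp [hθ, e1']) (by simp [hb, e2])) (key m hm e1' e2)
    · exact key v hv hθ hb
  obtain ⟨P, -, hP⟩ := le_fullSpan hS hC.compl
  have hxP : x ∈ P := (hP x).mpr ⟨hx, hfull⟩
  have hWP : W ≤ P := hC.le_of_forall ⟨m1, hm1, by rw [alt_skew hC.alt]; exact neg_ne_zero.mpr hm1'⟩ fun v hv hne' => by
    have h1 : x + B v x • v ∈ P :=
      (hP _).mpr ⟨W.add_mem hx (W.smul_mem _ hv), hfull.move hS (hC.mem v hv) fun u hu => hC.kills v hu⟩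
    simpa [smul_smul, hne'] using P.smul_mem (B v x)⁻¹ (P.sub_mem h1 hxP)
  have := hmax W U _ (Or.inl ⟨⟨hC.compl, hdim, fun z hz => ((hP z).mp (hWP hz)).2⟩, rfl⟩)
  omega

/-- A member with centre in `W` has axis containing `U`. -/
theorem axis_of_centre (hS : TSys S) (hM : IsMax S W U r) {w : V} {ψ : Module.Dual k V} (hw : w ∈ W) (hw0 : w ≠ 0)
    (h : S w ψ) : ∀ u ∈ U, ψ u = 0 := by
  obtain ⟨ψ₁, hU₁, hW₁⟩ := exists_restrict hM.1.compl ψ
  have hfin : ∀ {y}, y ∈ W → y ≠ 0 → S y (ψ - ψ₁) → ∀ u ∈ U, ψ u = 0 := fun {y} hy hy0 hs u hu => by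
    have e := (noMixed4 hS hM hy (fun v hv => by simp [hW₁ v hv]) hs).resolve_left hy0
    have := LinearMap.congr_fun e u
    simpa [hU₁ u hu] using this
  rcases hM.1 with ⟨hsl, -⟩ | ⟨B, hC, hd, rfl⟩
  · exact hfin hw hw0 (hS.subθ h (hsl.full w hw ψ₁ hU₁ (by rw [hW₁ w hw]; exact hS.null h)))
  obtain ⟨u, hu, rfl⟩ := hC.surj hU₁
  by_cases hu0 : u = 0
  · refine hfin hw hw0 ?_
    rwa [hu0, map_zero, sub_zero]
  rcases prop_or_exists (B w) (B u) (hC.exists_ne hu hu0) with ⟨c, hc⟩ | ⟨m, hm, e1, e2⟩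
  · have hwc : w = c • u := by
      rw [← sub_eq_zero]
      refine hC.nondeg _ (W.sub_mem hw (W.smul_mem c hu)) (eq_zero_of_isCompl hC.compl (fun z hz => ?_)
        (fun z hz => hC.kills _ hz))
      simp [hc z hz]
    have hc0 : c ≠ 0 := fun e => hw0 (by rw [hwc, e, zero_smul])
    refine hfin hw hw0 (hS.subθ h ?_)
    have := hS.smulθ c⁻¹ (hC.mem w hw)
    rw [hwc, map_smul, smul_smul, inv_mul_cancel₀ hc0, one_smul] at this
    rw [hwc]; exact this
  · have key : ∀ v ∈ W, ψ v = 0 → B w v ≠ 0 → S v ψ := fun v hv a b =>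
      hS.comm' h (hC.mem v hv) a (by rw [alt_skew hC.alt]; exact neg_ne_zero.mpr b)
    have hψu : ψ u = 0 := by rw [← hW₁ u hu]; exact hC.alt u
    have hψm : ψ m = 0 := by rw [← hW₁ m hm]; exact e1
    have hsu : S u ψ := by
      by_cases hb : B w u = 0
      · simpa using hS.subx (key (u + m) (W.add_mem hu hm) (by simp [hψu, hψm]) (by simp [hb, e2])) (key m hm hψm e2)
      · exact key u hu hψu hb
    have hψ : ψ = B u := sub_eq_zero.mp
      ((noMixed4 hS hM hu (fun v hv => by simp [hW₁ v hv]) (hS.subθ hsu (hC.mem u hu))).resolve_left hu0)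
    exact fun z hz => by rw [hψ]; exact hC.kills u hz

/-- A member with axis containing `U` has centre in `W`. -/
theorem centre_of_axis (hS : TSys S) (hM : IsMax S W U r) {w1 w0 : V} {ψ : Module.Dual k V} (hw1 : w1 ∈ W)
    (hw0 : w0 ∈ U) (hψ : ∀ u ∈ U, ψ u = 0) (hψ0 : ψ ≠ 0) (h : S (w1 + w0) ψ) : w0 = 0 := by
  have hψ1 : ψ w1 = 0 := by have := hS.null h; rwa [map_add, hψ w0 hw0, add_zero] at this
  rcases hM.1 with ⟨hsl, -⟩ | ⟨B, hC, hd, rfl⟩
  · refine (noMixed3 hS hM hw0 hψ ?_).resolve_right hψ0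
    simpa using hS.subx h (hsl.full w1 hw1 ψ hψ hψ1)
  obtain ⟨u, hu, rfl⟩ := hC.surj hψ
  have hu0 : u ≠ 0 := fun e => hψ0 (by rw [e, map_zero])
  by_cases hwu : ∃ c : k, w1 = c • u
  · obtain ⟨c, rfl⟩ := hwu
    refine (noMixed3 hS hM hw0 hψ ?_).resolve_right hψ0
    simpa using hS.subx h (hS.smulx c (hC.mem u hu))
  have hw1ne : w1 ≠ 0 := fun e => hwu ⟨0, by rw [e, zero_smul]⟩
  rcases prop_or_exists (B u) (B w1) (hC.exists_ne hw1 hw1ne) with ⟨c, hc⟩ | ⟨m, hm, e1, e2⟩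
  · exfalso
    have huc : u = c • w1 := by
      rw [← sub_eq_zero]
      refine hC.nondeg _ (W.sub_mem hu (W.smul_mem c hw1)) (eq_zero_of_isCompl hC.compl (fun z hz => ?_)
        (fun z hz => hC.kills _ hz))
      simp [hc z hz]
    have hc0 : c ≠ 0 := fun e => hu0 (by rw [huc, e, zero_smul])
    exact hwu ⟨c⁻¹, by rw [huc, smul_smul, inv_mul_cancel₀ hc0, one_smul]⟩
  · have key : ∀ v ∈ W, B v w1 = 0 → B u v ≠ 0 → S (w1 + w0) (B v) := fun v hv a b =>
      hS.comm h (hC.mem v hv) (by simp [a, hC.kills v hw0]) b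
    have e1' : B m w1 = 0 := by rw [alt_skew hC.alt, e1, neg_zero]
    have hs : S (w1 + w0) (B w1) := by
      simpa using hS.subθ (key (w1 + m) (W.add_mem hw1 hm) (by simp [hC.alt, e1']) (by simp [hψ1, e2])) (key m hm e1' e2)
    refine (noMixed3 hS hM hw0 (fun z hz => hC.kills w1 hz) ?_).resolve_right fun e => hw1ne (hC.nondeg w1 hw1 e)
    simpa using hS.subx hs (hC.mem w1 hw1)

/-- Each member is inside, outside, or of symplectic extension shape. -/
theorem trichotomy (hS : TSys S) (hM : IsMax S W U r) {w : V} {ψ : Module.Dual k V} (h : S w ψ) (hw : w ≠ 0)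
    (hψ : ψ ≠ 0) : (w ∈ W ∧ ∀ u ∈ U, ψ u = 0) ∨ (w ∈ U ∧ ∀ v ∈ W, ψ v = 0) ∨
    ∃ B : V →ₗ[k] Module.Dual k V, SpCore S W U B ∧ r = 2 * Module.finrank k W ∧ ∃ x ∈ W, x ≠ 0 ∧ ∃ w0 ∈ U, w = x + w0 ∧
      ∃ c : k, c ≠ 0 ∧ ∀ v ∈ W, ψ v = c * B x v := by
  obtain ⟨w1, hw1, w0, hw0, rfl⟩ := split_of_isCompl hM.1.compl w
  -- a member with non-zero axis inside forces the whole member inside
  have inner : ∀ θ : Module.Dual k V, θ ≠ 0 → (∀ u ∈ U, θ u = 0) → S (w1 + w0) θ →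
      (w1 + w0 ∈ W ∧ ∀ u ∈ U, ψ u = 0) := fun θ hθ hθU hs => by
    have e := centre_of_axis hS hM hw1 hw0 hθU hθ hs
    rw [e, add_zero] at h hw ⊢
    exact ⟨hw1, axis_of_centre hS hM hw1 hw h⟩
  -- a member with non-zero centre inside and axis killing `W` is impossible
  have outer : ∀ v ∈ W, v ≠ 0 → (∀ z ∈ W, ψ z = 0) → S v ψ → False := fun v hv hv0 hz hs =>
    hψ ((noMixed4 hS hM hv hz hs).resolve_left hv0)
  have hψw0 := noI hS hM hw1 hw0 h
  have hψw1 : ψ w1 = 0 := by have := hS.null h; rwa [map_add, hψw0, add_zero] at this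
  by_cases hW0 : ∀ v ∈ W, ψ v = 0
  · by_cases hw10 : w1 = 0
    · exact Or.inr (Or.inl ⟨by rw [hw10, zero_add]; exact hw0, hW0⟩)
    exfalso
    rcases hM.1 with ⟨hsl, -⟩ | ⟨B, hC, -, -⟩
    · obtain ⟨v, hv, hv'⟩ : ∃ v ∈ W, v ∉ Submodule.span k {w1} := by
        by_contra hc
        push Not at hc
        have := Submodule.finrank_mono (show W ≤ Submodule.span k {w1} from hc)
        rw [finrank_span_singleton hw10] at this
        have := hsl.dim
        omega
      have hv0 : v ≠ 0 := fun e => hv' (e ▸ Submodule.zero_mem _)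
      have hmem : w1 ∉ U ⊔ Submodule.span k {v} := by
        intro hmem
        obtain ⟨u, hu, z, hz, e⟩ := Submodule.mem_sup.mp hmem
        obtain ⟨a, rfl⟩ := Submodule.mem_span_singleton.mp hz
        have hu0 : u = 0 := Submodule.disjoint_def.mp hsl.compl.disjoint u
          (by rw [show u = w1 - a • v by rw [← e]; abel]; exact W.sub_mem hw1 (W.smul_mem a hv)) hu
        rw [hu0, zero_add] at e
        have ha : a ≠ 0 := fun e0 => hw10 (by rw [← e, e0, zero_smul])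
        exact hv' (Submodule.mem_span_singleton.mpr ⟨a⁻¹, by rw [← e, smul_smul, inv_mul_cancel₀ ha, one_smul]⟩)
      obtain ⟨θ, hθ1, hθ⟩ := exists_dual hmem
      have hθU : ∀ u ∈ U, θ u = 0 := fun u hu => hθ u (Submodule.mem_sup_left hu)
      refine outer v hv hv0 hW0 (hS.comm' h (hsl.full v hv θ hθU
        (hθ v (Submodule.mem_sup_right (Submodule.mem_span_singleton_self v)))) (hW0 v hv) ?_)
      simp [hθ1, hθU w0 hw0]
    · obtain ⟨m, hm, hm'⟩ := hC.exists_ne hw1 hw10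
      refine outer m hm (fun e => hm' (by rw [e, map_zero])) hW0 (hS.comm' h (hC.mem m hm) (hW0 m hm) ?_)
      rw [map_add, hC.kills m hw0, add_zero, alt_skew hC.alt]
      exact neg_ne_zero.mpr hm'
  push Not at hW0
  obtain ⟨v, hv, hψv⟩ := hW0
  rcases hM.1 with ⟨hsl, -⟩ | ⟨B, hC, -, hr⟩
  · left
    obtain ⟨y, hy, hy'⟩ : ∃ y ∈ W, y ∉ Submodule.span k (Set.range ![w1, v]) := by
      by_contra hc
      push Not at hc
      have := Submodule.finrank_mono (show W ≤ Submodule.span k (Set.range ![w1, v]) from hc)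
      have h2 := finrank_range_le_card (R := k) ![w1, v]
      rw [Fintype.card_fin, Set.finrank] at h2
      have := hsl.dim
      omega
    have hle : Submodule.span k (Set.range ![w1, v]) ≤ W := by
      rw [Submodule.span_le]; rintro _ ⟨i, rfl⟩; fin_cases i <;> assumption
    have hmem : y ∉ U ⊔ Submodule.span k (Set.range ![w1, v]) := by
      intro hmem
      obtain ⟨u, hu, z, hz, e⟩ := Submodule.mem_sup.mp hmem
      have hu0 : u = 0 := Submodule.disjoint_def.mp hsl.compl.disjoint u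
        (by rw [show u = y - z by rw [← e]; abel]; exact W.sub_mem hy (hle hz)) hu
      rw [hu0, zero_add] at e
      exact hy' (e ▸ hz)
    obtain ⟨θ, hθ1, hθ⟩ := exists_dual hmem
    have hθU : ∀ u ∈ U, θ u = 0 := fun u hu => hθ u (Submodule.mem_sup_left hu)
    refine inner θ (fun e => by simp [e] at hθ1) hθU (hS.comm h (hsl.full v hv θ hθU ?_) ?_ hψv)
    · exact hθ v (Submodule.mem_sup_right (Submodule.subset_span ⟨1, rfl⟩))
    · rw [map_add, hθU w0 hw0, add_zero]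
      exact hθ w1 (Submodule.mem_sup_right (Submodule.subset_span ⟨0, rfl⟩))
  · by_cases hex : ∃ m ∈ W, B w1 m = 0 ∧ ψ m ≠ 0
    · obtain ⟨m, hm, hm1, hm2⟩ := hex
      have hm0 : m ≠ 0 := fun e => hm2 (by rw [e, map_zero])
      have e : B m w1 = 0 := by rw [alt_skew hC.alt, hm1, neg_zero]
      exact Or.inl (inner (B m) (fun e0 => hm0 (hC.nondeg m hm e0)) (fun u hu => hC.kills m hu)
        (hS.comm h (hC.mem m hm) (by simp [e, hC.kills m hw0]) hm2))
    · push Not at hex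
      have hw10 : w1 ≠ 0 := fun e => hψv (hex v hv (by simp [e]))
      obtain ⟨c, hc⟩ := (prop_or_exists (W := W) ψ (B w1) (hC.exists_ne hw1 hw10)).resolve_right
        fun ⟨m, hm, a, b⟩ => b (hex m hm a)
      exact Or.inr (Or.inr ⟨B, hC, hr, w1, hw1, hw10, w0, hw0, rfl, c, fun e => hψv (by rw [hc v hv, e, zero_mul]),
        hc⟩)

/-- The outer part of a member of extension shape. -/
theorem shape_detach (hS : TSys S) (hM : IsMax S W U r) {B : V →ₗ[k] Module.Dual k V} (hC : SpCore S W U B)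
    {x w0 : V} {ψ : Module.Dual k V} {c : k} (hx : x ∈ W) (hx0 : x ≠ 0) (hw0 : w0 ∈ U) (hc : c ≠ 0)
    (hψ : ∀ v ∈ W, ψ v = c * B x v) (h : S (x + w0) ψ) :
    (∀ v ∈ W, (c⁻¹ • ψ - B x) v = 0) ∧ S w0 (c⁻¹ • ψ - B x) ∧
      ∀ z ∈ W, z ≠ 0 → S (z + w0) (B z + (c⁻¹ • ψ - B x)) := by
  have hφ : ∀ v ∈ W, (c⁻¹ • ψ - B x) v = 0 := fun v hv => by
    simp [hψ v hv, hc]
  refine ⟨hφ, detach hS hC hx hx0 hw0 hφ ?_ ?_⟩
  · simp [noI hS hM hx hw0 h, hC.kills x hw0]
  · rw [add_sub_cancel]; exact hS.smulθ _ h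

/-- Every member lies inside or outside a largest configuration. -/
theorem classify (hS : TSys S) (hM : IsMax S W U r) {w : V} {ψ : Module.Dual k V} (h : S w ψ) (hw : w ≠ 0)
    (hψ : ψ ≠ 0) : (w ∈ W ∧ ∀ u ∈ U, ψ u = 0) ∨ (w ∈ U ∧ ∀ v ∈ W, ψ v = 0) := by
  rcases trichotomy hS hM h hw hψ with e | e | ⟨B, hC, hr, x, hx, hx0, w0, hw0, rfl, c, hc, hψc⟩
  · exact Or.inl e
  · exact Or.inr e
  obtain ⟨hφ, hd, hmix⟩ := shape_detach hS hM hC hx hx0 hw0 hc hψc h
  set φ := c⁻¹ • ψ - B x with hφdef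
  by_cases hw00 : w0 = 0
  · left; refine ⟨by rw [hw00, add_zero]; exact hx, ?_⟩
    rw [hw00, add_zero] at h
    exact axis_of_centre hS hM hx hx0 h
  by_cases hφ0 : φ = 0
  · have hψB : ψ = c • B x := by
      rw [← sub_eq_zero.mp hφ0, smul_smul, mul_inv_cancel₀ hc, one_smul]
    exact absurd (centre_of_axis hS hM hx hw0 (fun u hu => by simp [hψB, hC.kills x hu]) hψ h) hw00
  exfalso
  obtain ⟨y, η, hy, hy1, hy2⟩ := hS.opp hd hw00 hφ0
  have hy0 : y ≠ 0 := fun e => hy1 (by rw [e, map_zero])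
  have hη0 : η ≠ 0 := fun e => hy2 (by rw [e, LinearMap.zero_apply])
  suffices H : ∃ y0 ∈ U, ∃ η0 : Module.Dual k V, (∀ v ∈ W, η0 v = 0) ∧ S y0 η0 ∧ φ y0 ≠ 0 ∧ η0 w0 ≠ 0 by
    obtain ⟨y0, hy0U, η0, hη, hs, a, b⟩ := H
    obtain ⟨W', U', B', hC', hd'⟩ := extendSp hS hC hw0 hy0U hφ hη hd hs a b hmix
    have := hM.2 W' U' _ (Or.inr ⟨B', hC', by omega, rfl⟩)
    omega
  rcases trichotomy hS hM hy hy0 hη0 with ⟨e, -⟩ | ⟨e1, e2⟩ | ⟨B', hC', -, a, ha, ha0, y0, hy0', rfl, d, hd0, hηd⟩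
  · exact absurd (hφ y e) hy1
  · exact ⟨y, e1, η, e2, hy, hy1, hy2⟩
  · obtain ⟨hζ, hs, -⟩ := shape_detach hS hM hC' ha ha0 hy0' hd0 hηd hy
    refine ⟨y0, hy0', _, hζ, hs, ?_, ?_⟩
    · rwa [map_add, hφ a ha, zero_add] at hy1
    · simp [hC'.kills a hw0, hy2, hd0]

/-- A non-trivial system has a largest configuration. -/
theorem exists_max (hS : TSys S) {x : V} {θ : Module.Dual k V} (h : S x θ) (hx : x ≠ 0) (hθ : θ ≠ 0) :
    ∃ W U r, IsMax S W U r := by
  classical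
  obtain ⟨y, η, hy, h1, h2⟩ := hS.opp h hx hθ
  have h0 : SpCore S ⊥ ⊤ 0 := ⟨isCompl_bot_top, fun z => rfl, fun u _ => rfl, fun z hz _ => (Submodule.mem_bot k).mp hz,
    fun z hz => by rw [(Submodule.mem_bot k).mp hz]; exact hS.zl _⟩
  obtain ⟨W, U, B, hC, hd⟩ := extendSp hS h0 (Submodule.mem_top (x := x)) (Submodule.mem_top (x := y))
    (fun v hv => by simp [(Submodule.mem_bot k).mp hv]) (fun v hv => by simp [(Submodule.mem_bot k).mp hv]) h hy h1 h2
    (fun z hz hz0 => absurd ((Submodule.mem_bot k).mp hz) hz0)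
  rw [finrank_bot] at hd
  set p : ℕ → Prop := fun r => ∃ W U, Cfg S W U r with hp
  have hb : ∀ {W' : Submodule k V} {U' : Submodule k V} {r'}, Cfg S W' U' r' → r' ≤ 2 * Module.finrank k V + 1 :=
    fun {W' U' r'} hc => by have := hc.dim; have := Submodule.finrank_le W'; omega
  have hc : Cfg S W U (2 * Module.finrank k W) := Or.inr ⟨B, hC, by omega, rfl⟩
  have hp0 : p (2 * Module.finrank k W) := ⟨W, U, hc⟩
  obtain ⟨W₀, U₀, hW₀⟩ := Nat.findGreatest_spec (P := p) (hb hc) hp0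
  exact ⟨W₀, U₀, _, hW₀, fun W' U' r' h' => Nat.le_findGreatest (hb h') ⟨W', U', h'⟩⟩

end CfsgLib.McL
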