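/-
Decomposition of a transvection system into classical blocks.
-/
import Mathlib
import Cfsg.Agent.Lib.RootSub.McL.Classify

set_option autoImplicit false

namespace CfsgLib.McL

variable {k : Type*} [Field k] {V : Type*} [AddCommGroup V] [Module k V] [FiniteDimensional k V]

/-- A block: a special linear or a symplectic configuration. -/
def Classical (S : V → Module.Dual k V → Prop) (W U : Submodule k V) : Prop :=
  IsSL S W U ∨ ∃ B, SpCore S W U B ∧ 2 ≤ Module.finrank k W

variable {S : V → Module.Dual k V → Prop} {W U : Submodule k V}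

theorem Classical.mono {S' : V → Module.Dual k V → Prop} (h : Classical S W U) (hle : ∀ x θ, S x θ → S' x θ) :
    Classical S' W U := by
  rcases h with h | ⟨B, h, hd⟩
  · exact Or.inl ⟨h.compl, h.dim, fun x hx θ a b => hle _ _ (h.full x hx θ a b)⟩
  · exact Or.inr ⟨B, ⟨h.compl, h.alt, h.rad, h.nondeg, fun x hx => hle _ _ (h.mem x hx)⟩, hd⟩

theorem Classical.compl (h : Classical S W U) : IsCompl W U := by
  rcases h with h | ⟨B, h, -⟩ <;> exact h.compl

/-- The members detect the two spaces. -/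
theorem Classical.exists_member (h : Classical S W U) {x : V} (hx : x ∈ W) (hx0 : x ≠ 0) :
    ∃ θ, S x θ ∧ θ ≠ 0 := by
  rcases h with h | ⟨B, h, -⟩
  · obtain ⟨m, hm, hm'⟩ : ∃ m ∈ W, m ∉ U ⊔ Submodule.span k {x} := by
      by_contra hc
      push Not at hc
      have hle : W ≤ Submodule.span k {x} := fun v hv => by
        obtain ⟨u, hu, z, hz, e⟩ := Submodule.mem_sup.mp (hc v hv)
        have hu0 : u = 0 := Submodule.disjoint_def.mp h.compl.disjoint u
          (by rw [show u = v - z by rw [← e]; abel]; exact W.sub_mem hv ((Submodule.span_singleton_le_iff_mem x W).mpr hx hz)) hu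
        rw [← e, hu0, zero_add]; exact hz
      have := Submodule.finrank_mono hle
      rw [finrank_span_singleton hx0] at this
      have := h.dim
      omega
    obtain ⟨θ, hθ1, hθ⟩ := exists_dual hm'
    exact ⟨θ, h.full x hx θ (fun u hu => hθ u (Submodule.mem_sup_left hu))
      (hθ x (Submodule.mem_sup_right (Submodule.mem_span_singleton_self x))), fun e => by simp [e] at hθ1⟩
  · exact ⟨B x, h.mem x hx, fun e => hx0 (h.nondeg x hx e)⟩

theorem Classical.mem_of_killed (h : Classical S W U) {y : V} (hy : ∀ x θ, S x θ → x ≠ 0 → θ y = 0) : y ∈ U := by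
  obtain ⟨a, ha, u, hu, rfl⟩ := split_of_isCompl h.compl y
  suffices a = 0 by rw [this, zero_add]; exact hu
  by_contra ha0
  rcases h with h | ⟨B, h, -⟩
  · have hau : a ∉ U := fun e => ha0 (Submodule.disjoint_def.mp h.compl.disjoint a ha e)
    obtain ⟨θ, hθ1, hθ⟩ := exists_dual hau
    obtain ⟨m, hm, hm'⟩ : ∃ m ∈ W, m ∉ Submodule.span k {a} := by
      by_contra hc
      push Not at hc
      have := Submodule.finrank_mono (show W ≤ Submodule.span k {a} from hc)
      rw [finrank_span_singleton ha0] at this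
      have := h.dim
      omega
    have hx : m - θ m • a ∈ W := W.sub_mem hm (W.smul_mem _ ha)
    have hx0 : m - θ m • a ≠ 0 := fun e => hm' (by
      rw [sub_eq_zero.mp e]; exact Submodule.smul_mem _ _ (Submodule.mem_span_singleton_self a))
    have := hy _ θ (h.full _ hx θ hθ (by simp [hθ1])) hx0
    rw [map_add, hθ1, hθ u hu, add_zero] at this
    exact one_ne_zero this
  · obtain ⟨m, hm, hm'⟩ := h.exists_ne ha ha0
    have hm0 : m ≠ 0 := fun e => hm' (by rw [e, map_zero])
    have := hy m (B m) (h.mem m hm) hm0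
    rw [map_add, h.kills m hu, add_zero, alt_skew h.alt, neg_eq_zero] at this
    exact hm' this

/-- The system outside a block. -/
def outside (S : V → Module.Dual k V → Prop) (W U : Submodule k V) (x : V) (θ : Module.Dual k V) : Prop :=
  S x θ ∧ ∀ y, θ y • x ∈ U ∧ (y ∈ W → θ y • x = 0)

omit [FiniteDimensional k V] in
theorem outside_spec {x : V} {θ : Module.Dual k V} (h : outside S W U x θ) (hx : x ≠ 0) (hθ : θ ≠ 0) :
    x ∈ U ∧ ∀ v ∈ W, θ v = 0 := by
  obtain ⟨y, hy⟩ : ∃ y, θ y ≠ 0 := by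
    by_contra hc; push Not at hc; exact hθ (LinearMap.ext hc)
  refine ⟨by simpa [smul_smul, hy] using U.smul_mem (θ y)⁻¹ (h.2 y).1, fun v hv => ?_⟩
  exact (smul_eq_zero.mp ((h.2 v).2 hv)).resolve_right hx

theorem tsys_outside (hS : TSys S) (h2 : (2 : k) ≠ 0)
    (hcl : ∀ x θ, S x θ → x ≠ 0 → θ ≠ 0 → (x ∈ W ∧ ∀ u ∈ U, θ u = 0) ∨ (x ∈ U ∧ ∀ v ∈ W, θ v = 0)) :
    TSys (outside S W U) where
  null h := hS.null h.1
  zl θ := ⟨hS.zl θ, fun y => by simp⟩
  zr x := ⟨hS.zr x, fun y => by simp⟩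
  addθ h h' := ⟨hS.addθ h.1 h'.1, fun y => ⟨by rw [LinearMap.add_apply, add_smul]; exact U.add_mem (h.2 y).1 (h'.2 y).1,
    fun hy => by rw [LinearMap.add_apply, add_smul, (h.2 y).2 hy, (h'.2 y).2 hy, add_zero]⟩⟩
  addx h h' := ⟨hS.addx h.1 h'.1, fun y => ⟨by rw [smul_add]; exact U.add_mem (h.2 y).1 (h'.2 y).1,
    fun hy => by rw [smul_add, (h.2 y).2 hy, (h'.2 y).2 hy, add_zero]⟩⟩
  smulθ c {x θ} h := ⟨hS.smulθ c h.1, fun y => ⟨by rw [LinearMap.smul_apply, smul_eq_mul, mul_smul]; exact U.smul_mem c (h.2 y).1,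
    fun hy => by rw [LinearMap.smul_apply, smul_eq_mul, mul_smul, (h.2 y).2 hy, smul_zero]⟩⟩
  smulx c {x θ} h := ⟨hS.smulx c h.1, fun y => ⟨by rw [smul_comm]; exact U.smul_mem c (h.2 y).1,
    fun hy => by rw [smul_comm, (h.2 y).2 hy, smul_zero]⟩⟩
  conj {x θ y η} h h' := ⟨hS.conj h.1 h'.1, fun z => by
    have key : (η - η x • θ) z • (y + θ y • x) =
        η z • y + θ (η z • y) • x - η (θ z • x) • y - (η x * θ y) • (θ z • x) := by
      simp only [LinearMap.sub_apply, LinearMap.smul_apply, smul_eq_mul, map_smul]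
      module
    refine ⟨key ▸ U.sub_mem (U.sub_mem (U.add_mem (h'.2 z).1 (h.2 _).1) ?_) (U.smul_mem _ (h.2 z).1), fun hz => ?_⟩
    · have e : η (θ z • x) • y = θ z • (η x • y) := by rw [map_smul, smul_eq_mul, mul_smul]
      rw [e]; exact U.smul_mem _ (h'.2 x).1
    · rw [key, (h'.2 z).2 hz, (h.2 z).2 hz]; simp⟩
  cancel {x w θ η} h1 h3 h4 a b c d := ⟨hS.cancel h1.1 h3.1 h4.1 a b c d, fun y => by
    have key : η y • w = (2 : k)⁻¹ • ((θ + η) y • (x + w) + (-θ + η) y • (-x + w)) - θ y • x := by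
      simp only [LinearMap.add_apply, LinearMap.neg_apply]
      match_scalars <;> field_simp <;> ring
    refine ⟨key ▸ U.sub_mem (U.smul_mem _ (U.add_mem (h1.2 y).1 (h3.2 y).1)) (h4.2 y).1, fun hy => ?_⟩
    rw [key, (h1.2 y).2 hy, (h3.2 y).2 hy, (h4.2 y).2 hy]; simp⟩
  opp {x θ} h hx hθ := by
    obtain ⟨-, hθW⟩ := outside_spec h hx hθ
    obtain ⟨y, η, hy, h1, h2'⟩ := hS.opp h.1 hx hθ
    refine ⟨y, η, ⟨hy, ?_⟩, h1, h2'⟩
    have hy0 : y ≠ 0 := fun e => h1 (by rw [e, map_zero])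
    have hη0 : η ≠ 0 := fun e => h2' (by rw [e, LinearMap.zero_apply])
    rcases hcl y η hy hy0 hη0 with ⟨e, -⟩ | ⟨e1, e2⟩
    · exact absurd (hθW y e) h1
    · exact fun z => ⟨U.smul_mem _ e1, fun hz => by rw [e2 z hz, zero_smul]⟩

/-- A classical block containing no transvections of other types. -/
def Block (S : V → Module.Dual k V → Prop) (W U : Submodule k V) : Prop :=
  IsSL S W U ∨ ∃ B, SpCore S W U B ∧ 2 ≤ Module.finrank k W ∧
    ∀ x θ, S x θ → x ∈ W → x ≠ 0 → (∀ u ∈ U, θ u = 0) → ∃ c : k, θ = c • B x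

omit [FiniteDimensional k V] in
theorem Block.classical (h : Block S W U) : Classical S W U := by
  rcases h with h | ⟨B, h, hd, -⟩
  · exact Or.inl h
  · exact Or.inr ⟨B, h, hd⟩

/-- The block decomposition. -/
theorem exists_blocks (h2 : (2 : k) ≠ 0) : ∀ (S : V → Module.Dual k V → Prop), TSys S →
    ∃ (n : ℕ) (W U : Fin n → Submodule k V), (∀ i, Block S (W i) (U i)) ∧ (∀ i j, i ≠ j → W i ≤ U j) ∧
      ∀ x θ, S x θ → x ≠ 0 → θ ≠ 0 → ∃ i, x ∈ W i ∧ ∀ u ∈ U i, θ u = 0 := by
  intro S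
  induction hn : Module.finrank k (Submodule.span k {x | ∃ θ, S x θ ∧ θ ≠ 0}) using Nat.strong_induction_on
    generalizing S with
  | _ d ih =>
    intro hS
    by_cases hex : ∃ x θ, S x θ ∧ x ≠ 0 ∧ θ ≠ 0
    swap
    · exact ⟨0, Fin.elim0, Fin.elim0, fun i => i.elim0, fun i => i.elim0,
        fun x θ h a b => absurd ⟨x, θ, h, a, b⟩ hex⟩
    obtain ⟨x, θ, hxθ, hx, hθ⟩ := hex
    obtain ⟨W, U, r, hM⟩ := exists_max hS hxθ hx hθ
    have hWB : Block S W U := by
      rcases hM.1 with ⟨h, -⟩ | ⟨B, h, hd, hr⟩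
      · exact Or.inl h
      · refine Or.inr ⟨B, h, hd, fun a b hab ha ha0 hb => ?_⟩
        obtain ⟨u, hu, rfl⟩ := h.surj hb
        obtain ⟨c, rfl⟩ := noSL hS h (fun W' U' r' hc => (hM.2 W' U' r' hc).trans_eq hr) ha ha0 hu (hS.null hab) hab
        exact ⟨c, map_smul B c a⟩
    have hWU : Classical S W U := hWB.classical
    have hcl := fun a b h p q => classify hS hM (w := a) (ψ := b) h p q
    set S' := outside S W U with hS'
    have hS'T : TSys S' := tsys_outside hS h2 hcl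
    obtain ⟨w, hw, hw0⟩ : ∃ w ∈ W, w ≠ 0 := by
      refine (Submodule.ne_bot_iff W).mp fun e => ?_
      have h' := hM.1.dim.1
      rw [e, finrank_bot] at h'
      omega
    have hlt : Module.finrank k (Submodule.span k {x | ∃ θ, S' x θ ∧ θ ≠ 0}) < d := by
      rw [← hn]
      refine Submodule.finrank_lt_finrank_of_lt (lt_of_le_of_ne (Submodule.span_mono fun a ⟨b, hb, hb'⟩ => ⟨b, hb.1, hb'⟩)
        fun e => hw0 ?_)
      have hle : Submodule.span k {x | ∃ θ, S' x θ ∧ θ ≠ 0} ≤ U := Submodule.span_le.mpr fun a ⟨b, hb, hb'⟩ => by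
        by_cases ha : a = 0
        · rw [ha]; exact U.zero_mem
        · exact (outside_spec hb ha hb').1
      obtain ⟨b, hb, hb'⟩ := hWU.exists_member hw hw0
      exact Submodule.disjoint_def.mp hWU.compl.disjoint w hw (hle (e ▸ Submodule.subset_span ⟨b, hb, hb'⟩))
    obtain ⟨n, W', U', hblk, hord, hcov⟩ := ih _ hlt S' rfl hS'T
    have hcls := fun i => (hblk i).classical
    have hWi : ∀ i, W' i ≤ U := fun i z hz => by
      by_cases hz0 : z = 0
      · rw [hz0]; exact U.zero_mem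
      obtain ⟨b, hb, hb'⟩ := (hcls i).exists_member hz hz0
      exact (outside_spec hb hz0 hb').1
    have hUi : ∀ i, W ≤ U' i := fun i y hy => (hcls i).mem_of_killed fun a b hb ha => by
      by_cases hb0 : b = 0
      · rw [hb0, LinearMap.zero_apply]
      · exact (outside_spec hb ha hb0).2 y hy
    refine ⟨n + 1, Fin.cons W W', Fin.cons U U', ?_, ?_, fun a b hab ha hb => ?_⟩
    · refine Fin.cases ?_ fun i => ?_
      · simpa using hWB
      · simp only [Fin.cons_succ]
        rcases hblk i with h | ⟨B, h, hd, hp⟩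
        · exact Or.inl ⟨h.compl, h.dim, fun a ha b p q => (h.full a ha b p q).1⟩
        · exact Or.inr ⟨B, ⟨h.compl, h.alt, h.rad, h.nondeg, fun a ha => (h.mem a ha).1⟩, hd, fun a b hab ha ha0 hb =>
            hp a b ⟨hab, fun y => ⟨U.smul_mem _ (hWi i ha), fun hy => by rw [hb y (hUi i hy), zero_smul]⟩⟩ ha ha0 hb⟩
    · refine Fin.cases ?_ fun i => ?_ <;> refine Fin.cases ?_ fun j => ?_ <;> intro hij
      · exact absurd rfl hij
      · simpa using hUi j
      · simpa using hWi i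
      · simpa using hord i j fun e => hij (by rw [e])
    · rcases hcl a b hab ha hb with h | ⟨h1, h2⟩
      · exact ⟨0, by simpa using h⟩
      · obtain ⟨i, hi⟩ := hcov a b ⟨hab, fun y => ⟨U.smul_mem _ h1, fun hy => by rw [h2 y hy, zero_smul]⟩⟩ ha hb
        exact ⟨i.succ, by simpa using hi⟩

end CfsgLib.McL
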