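/-
Special linear and symplectic groups of a subspace are generated by transvections.
-/
import Mathlib
import Cfsg.Agent.Lib.RootSub.McL.Blocks

set_option autoImplicit false

namespace CfsgLib.McL

variable {k : Type*} [Field k] {V : Type*} [AddCommGroup V] [Module k V]

/-- A transvection of given centre and axis in a group. -/
def Tv (H : Subgroup (V ≃ₗ[k] V)) (x : V) (θ : Module.Dual k V) : Prop :=
  θ x = 0 ∧ ∃ g ∈ H, ∀ y, g y = y + θ y • x

/-- The fixed vectors. -/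
def Fx (f : V ≃ₗ[k] V) : Submodule k V := LinearMap.ker ((f : V →ₗ[k] V) - LinearMap.id)

theorem mem_Fx {f : V ≃ₗ[k] V} {v : V} : v ∈ Fx f ↔ f v = v := by
  simp [Fx, sub_eq_zero]

theorem gen_of_step [FiniteDimensional k V] (H : Subgroup (V ≃ₗ[k] V)) (P : (V ≃ₗ[k] V) → Prop)
    (hstep : ∀ f, P f → Fx f ≠ ⊤ → f ∈ H ∨ ∃ t ∈ H, P (t * f) ∧ Fx f < Fx (t * f)) {f : V ≃ₗ[k] V} (hf : P f) :
    f ∈ H := by
  induction hn : Module.finrank k V - Module.finrank k (Fx f) using Nat.strong_induction_on generalizing f with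
  | _ d ih =>
    by_cases htop : Fx f = ⊤
    · rw [show f = 1 from LinearEquiv.ext fun v => mem_Fx.mp (htop ▸ Submodule.mem_top)]
      exact one_mem _
    rcases hstep f hf htop with h | ⟨t, ht, hP, hlt⟩
    · exact h
    · have h1 := Submodule.finrank_lt_finrank_of_lt hlt
      have h2 := Submodule.finrank_le (Fx (t * f))
      have h3 := ih _ (by omega) hP rfl
      simpa using mul_mem (inv_mem ht) h3

theorem exists_outside {p : Submodule k V} (h : p ≠ ⊤) : ∃ v, v ∉ p := by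
  by_contra hc; push Not at hc; exact h (eq_top_iff.mpr fun v _ => hc v)

section Sp

variable [FiniteDimensional k V] {H : Subgroup (V ≃ₗ[k] V)} {W U : Submodule k V}
variable {B : V →ₗ[k] Module.Dual k V}

/-- The symplectic group of a block lies in a group containing its transvections. -/
theorem sp_mem (hsm : ∀ (c : k) (x : V) (θ : Module.Dual k V), Tv H x θ → Tv H x (c • θ)) (hC : SpCore (Tv H) W U B) {f : V ≃ₗ[k] V} (hU : ∀ u ∈ U, f u = u)
    (hW : ∀ z, f z - z ∈ W) (hB : ∀ a b, B (f a) (f b) = B a b) : f ∈ H := by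
  refine gen_of_step H (fun f => (∀ u ∈ U, f u = u) ∧ (∀ z, f z - z ∈ W) ∧ ∀ a b, B (f a) (f b) = B a b)
    ?_ ⟨hU, hW, hB⟩
  clear! f
  intro f ⟨hU, hW, hB⟩ htop
  -- a transvection with centre `d ∈ W` and `d` orthogonal to the fixed vectors
  have mv : ∀ (f : V ≃ₗ[k] V), (∀ u ∈ U, f u = u) → (∀ z, f z - z ∈ W) → (∀ a b, B (f a) (f b) = B a b) →
      ∀ d ∈ W, ∀ s : k, (∀ z ∈ Fx f, B d z = 0) → ∃ t ∈ H, (∀ y, t y = y + (s * B d y) • d) ∧
      ((∀ u ∈ U, (t * f) u = u) ∧ (∀ z, (t * f) z - z ∈ W) ∧ ∀ a b, B ((t * f) a) ((t * f) b) = B a b) ∧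
      Fx f ≤ Fx (t * f) := by
    intro f hU hW hB d hd s hperp
    obtain ⟨-, t, ht, htv⟩ := hsm s d (B d) (hC.mem d hd)
    have ht' : ∀ y, t y = y + (s * B d y) • d := fun y => by rw [htv]; simp
    have happ : ∀ y, (t * f) y = f y + (s * B d (f y)) • d := fun y => ht' (f y)
    refine ⟨t, ht, ht', ⟨fun u hu => ?_, fun z => ?_, fun a b => ?_⟩, fun z hz => ?_⟩
    · rw [happ, hU u hu, hC.kills d hu, mul_zero, zero_smul, add_zero]
    · rw [happ, add_sub_right_comm]; exact W.add_mem (hW z) (W.smul_mem _ hd)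
    · simp only [happ, map_add, map_smul, LinearMap.add_apply, LinearMap.smul_apply, smul_eq_mul, hB, hC.alt,
        alt_skew hC.alt (f a) d]
      ring
    · rw [mem_Fx, happ, mem_Fx.mp hz, hperp z hz]; simp
  have perp : ∀ (f : V ≃ₗ[k] V), (∀ a b, B (f a) (f b) = B a b) → ∀ v, ∀ z ∈ Fx f, B (v - f v) z = 0 := by
    intro f hB v z hz
    have := hB v z
    rw [mem_Fx.mp hz] at this
    simp [this]
  have good : ∀ (f : V ≃ₗ[k] V), (∀ u ∈ U, f u = u) → (∀ z, f z - z ∈ W) → (∀ a b, B (f a) (f b) = B a b) →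
      ∀ v, B v (f v) ≠ 0 → ∃ t ∈ H, ((∀ u ∈ U, (t * f) u = u) ∧ (∀ z, (t * f) z - z ∈ W) ∧
        ∀ a b, B ((t * f) a) ((t * f) b) = B a b) ∧ Fx f < Fx (t * f) := by
    intro f hU hW hB v hv
    have hd : v - f v ∈ W := by rw [← neg_sub]; exact W.neg_mem (hW v)
    obtain ⟨t, ht, ht', hP, hle⟩ := mv f hU hW hB _ hd (B v (f v))⁻¹ (perp f hB v)
    refine ⟨t, ht, hP, lt_of_le_of_ne hle fun e => hv ?_⟩
    have hfix : (t * f) v = v := by
      show t (f v) = v
      rw [ht', map_sub, LinearMap.sub_apply, hC.alt, sub_zero, inv_mul_cancel₀ hv, one_smul]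
      abel
    rw [mem_Fx.mp (e.symm ▸ mem_Fx.mpr hfix : v ∈ Fx f)]
    exact hC.alt v
  by_cases hgood : ∃ v, B v (f v) ≠ 0
  · obtain ⟨v, hv⟩ := hgood
    obtain ⟨t, ht, hP, hlt⟩ := good f hU hW hB v hv
    exact Or.inr ⟨t, ht, hP, hlt⟩
  push Not at hgood
  obtain ⟨v, hv⟩ := exists_outside htop
  have hd : v - f v ∈ W := by rw [← neg_sub]; exact W.neg_mem (hW v)
  have hd0 : v - f v ≠ 0 := fun e => hv (mem_Fx.mpr (sub_eq_zero.mp e).symm)
  obtain ⟨m, hm, hm'⟩ := hC.exists_ne hd hd0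
  -- the vectors `f u - u` detect `v` and `f v`
  have det : ∀ y, y - f y ≠ 0 → ∃ u, B (f u - u) (f y) ≠ 0 := by
    intro y hy
    have hd : y - f y ∈ W := by rw [← neg_sub]; exact W.neg_mem (hW y)
    obtain ⟨m, hm, hm'⟩ := hC.exists_ne hd hy
    refine ⟨m, fun e => hm' ?_⟩
    rw [map_sub, LinearMap.sub_apply, hB] at e
    rw [alt_skew hC.alt, map_sub, neg_sub]
    linear_combination -e
  obtain ⟨u1, e1⟩ := det v hd0
  obtain ⟨u2, e2⟩ : ∃ u, B (f u - u) v ≠ 0 := by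
    refine ⟨f.symm m, fun e => hm' ?_⟩
    rw [map_sub, LinearMap.sub_apply, LinearEquiv.apply_symm_apply] at e
    have e3 := hB (f.symm m) v
    rw [LinearEquiv.apply_symm_apply] at e3
    rw [alt_skew hC.alt, map_sub]
    linear_combination -e + e3
  obtain ⟨u, a1, a2⟩ : ∃ u, B (f u - u) (f v) ≠ 0 ∧ B (f u - u) v ≠ 0 := by
    by_cases c1 : B (f u1 - u1) v = 0
    · by_cases c2 : B (f u2 - u2) (f v) = 0
      · refine ⟨u1 + u2, ?_, ?_⟩ <;>
          rw [map_add, add_sub_add_comm, map_add, LinearMap.add_apply]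
        · rw [c2, add_zero]; exact e1
        · rw [c1, zero_add]; exact e2
      · exact ⟨u2, c2, e2⟩
    · exact ⟨u1, e1, c1⟩
  obtain ⟨t, ht, ht', ⟨hU', hW', hB'⟩, hle⟩ := mv f hU hW hB (f u - u) (hW u) 1 fun z hz => by
    have := perp f hB u z hz
    rw [← neg_sub, map_neg, LinearMap.neg_apply] at this
    exact neg_eq_zero.mp this
  by_cases hlt : Fx f < Fx (t * f)
  · exact Or.inr ⟨t, ht, ⟨hU', hW', hB'⟩, hlt⟩
  have heq : Fx f = Fx (t * f) := eq_of_le_of_not_lt hle hlt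
  obtain ⟨t2, ht2, hP2, hlt2⟩ := good (t * f) hU' hW' hB' v (by
    show B v (t (f v)) ≠ 0
    rw [ht', map_add, map_smul, hgood v, zero_add, one_mul, smul_eq_mul]
    refine mul_ne_zero a1 ?_
    rw [alt_skew hC.alt]; exact neg_ne_zero.mpr a2)
  exact Or.inr ⟨t2 * t, mul_mem ht2 ht, by rw [mul_assoc]; exact hP2, by rw [mul_assoc, heq]; exact hlt2⟩

end Sp

section SL

variable [FiniteDimensional k V] {H : Subgroup (V ≃ₗ[k] V)} {W U : Submodule k V}

/-- The special linear group of a block lies in a group containing its transvections. -/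
theorem sl_mem (hfull : ∀ x ∈ W, Full (Tv H) U x) (hc : IsCompl W U) {f : V ≃ₗ[k] V} (hU : ∀ u ∈ U, f u = u)
    (hW : ∀ z, f z - z ∈ W) (hdet : LinearMap.det (f : V →ₗ[k] V) = 1) : f ∈ H := by
  refine gen_of_step H (fun f => (∀ u ∈ U, f u = u) ∧ (∀ z, f z - z ∈ W) ∧ LinearMap.det (f : V →ₗ[k] V) = 1)
    ?_ ⟨hU, hW, hdet⟩
  clear! f
  intro f ⟨hU, hW, hdet⟩ htop
  have hUF : ∀ (f : V ≃ₗ[k] V), (∀ u ∈ U, f u = u) → U ≤ Fx f := fun f h u hu => mem_Fx.mpr (h u hu)
  have mv : ∀ (f : V ≃ₗ[k] V), (∀ u ∈ U, f u = u) → (∀ z, f z - z ∈ W) → LinearMap.det (f : V →ₗ[k] V) = 1 →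
      ∀ d ∈ W, ∀ θ : Module.Dual k V, (∀ z ∈ Fx f, θ z = 0) → θ d = 0 → ∃ t ∈ H, (∀ y, t y = y + θ y • d) ∧
      ((∀ u ∈ U, (t * f) u = u) ∧ (∀ z, (t * f) z - z ∈ W) ∧ LinearMap.det ((t * f : V ≃ₗ[k] V) : V →ₗ[k] V) = 1) ∧
      Fx f ≤ Fx (t * f) := by
    intro f hU hW hdet d hd θ hθF hθd
    obtain ⟨-, t, ht, htv⟩ := hfull d hd θ (fun u hu => hθF u (hUF f hU hu)) hθd
    have happ : ∀ y, (t * f) y = f y + θ (f y) • d := fun y => htv (f y)
    refine ⟨t, ht, htv, ⟨fun u hu => ?_, fun z => ?_, ?_⟩, fun z hz => ?_⟩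
    · rw [happ, hU u hu, hθF u (hUF f hU hu), zero_smul, add_zero]
    · rw [happ, add_sub_right_comm]; exact W.add_mem (hW z) (W.smul_mem _ hd)
    · have e : ((t * f : V ≃ₗ[k] V) : V →ₗ[k] V) = LinearMap.transvection θ d * (f : V →ₗ[k] V) :=
        LinearMap.ext fun y => by
          show (t * f) y = LinearMap.transvection θ d (f y)
          rw [happ, LinearMap.transvection.apply]
      rw [e, map_mul, LinearMap.transvection.det, hθd, add_zero, one_mul, hdet]
    · rw [mem_Fx, happ, mem_Fx.mp hz, hθF z hz]; simp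
  have good : ∀ (f : V ≃ₗ[k] V), (∀ u ∈ U, f u = u) → (∀ z, f z - z ∈ W) → LinearMap.det (f : V →ₗ[k] V) = 1 →
      ∀ v, v ∉ Fx f ⊔ Submodule.span k {v - f v} → ∃ t ∈ H, ((∀ u ∈ U, (t * f) u = u) ∧ (∀ z, (t * f) z - z ∈ W) ∧
        LinearMap.det ((t * f : V ≃ₗ[k] V) : V →ₗ[k] V) = 1) ∧ Fx f < Fx (t * f) := by
    intro f hU hW hdet v hv
    have hfv : f v ∉ Fx f ⊔ Submodule.span k {v - f v} := fun e => hv (by
      simpa using Submodule.add_mem _ e (Submodule.mem_sup_right (Submodule.mem_span_singleton_self (v - f v))))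
    obtain ⟨θ, h1, h2⟩ := exists_dual hfv
    have hd : v - f v ∈ W := by rw [← neg_sub]; exact W.neg_mem (hW v)
    obtain ⟨t, ht, ht', hP, hle⟩ := mv f hU hW hdet _ hd θ (fun z hz => h2 z (Submodule.mem_sup_left hz))
      (h2 _ (Submodule.mem_sup_right (Submodule.mem_span_singleton_self _)))
    refine ⟨t, ht, hP, lt_of_le_of_ne hle fun e => hv (Submodule.mem_sup_left (e ▸ mem_Fx.mpr ?_))⟩
    show t (f v) = v
    rw [ht', h1, one_smul]; abel
  by_cases hgood : ∃ v, v ∉ Fx f ⊔ Submodule.span k {v - f v}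
  · obtain ⟨v, hv⟩ := hgood
    obtain ⟨t, ht, hP, hlt⟩ := good f hU hW hdet v hv
    exact Or.inr ⟨t, ht, hP, hlt⟩
  push Not at hgood
  obtain ⟨v, hv⟩ := exists_outside htop
  obtain ⟨c, hc1, u, hu, rfl⟩ := split_of_isCompl hc v
  have hcF : c ∉ Fx f := fun e => hv (Submodule.add_mem _ e (hUF f hU hu))
  by_cases hbig : Fx f ⊔ Submodule.span k {c} = ⊤
  · -- `f` itself is a transvection
    obtain ⟨θ, h1, h2⟩ := exists_dual hcF
    have hf : ∀ y, f y = y + θ y • (f c - c) := by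
      intro y
      obtain ⟨z, hz, w, hw, rfl⟩ := Submodule.mem_sup.mp (hbig ▸ Submodule.mem_top : y ∈ Fx f ⊔ Submodule.span k {c})
      obtain ⟨a, rfl⟩ := Submodule.mem_span_singleton.mp hw
      rw [map_add, map_add, map_smul, map_smul, mem_Fx.mp hz, h2 z hz, h1, smul_eq_mul, mul_one, zero_add, smul_sub]
      abel
    have hd : θ (f c - c) = 0 := by
      have e : (f : V →ₗ[k] V) = LinearMap.transvection θ (f c - c) := LinearMap.ext fun y => by
        rw [LinearMap.transvection.apply]; exact hf y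
      rw [e, LinearMap.transvection.det] at hdet
      simpa using hdet
    obtain ⟨-, t, ht, htv⟩ := hfull _ (hW c) θ (fun u hu => h2 u (hUF f hU hu)) hd
    refine Or.inl ?_
    rw [show f = t from LinearEquiv.ext fun y => by rw [htv, hf]]
    exact ht
  obtain ⟨c2, hc2⟩ := exists_outside hbig
  obtain ⟨θ, h1, h2⟩ := exists_dual hc2
  obtain ⟨t, ht, ht', hP', hle⟩ := mv f hU hW hdet c hc1 θ (fun z hz => h2 z (Submodule.mem_sup_left hz))
    (h2 c (Submodule.mem_sup_right (Submodule.mem_span_singleton_self c)))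
  by_cases hlt : Fx f < Fx (t * f)
  · exact Or.inr ⟨t, ht, hP', hlt⟩
  have heq : Fx f = Fx (t * f) := eq_of_le_of_not_lt hle hlt
  obtain ⟨t2, ht2, hP2, hlt2⟩ := good (t * f) hP'.1 hP'.2.1 hP'.2.2 c2 (by
    intro hmem
    have hc2F : c2 ∉ Fx f := fun e => hc2 (Submodule.mem_sup_left e)
    obtain ⟨q, hq, z, hz, hqz⟩ := Submodule.mem_sup.mp (hgood c2)
    obtain ⟨a, rfl⟩ := Submodule.mem_span_singleton.mp hz
    have ha : a ≠ 0 := fun e => hc2F (by rwa [← hqz, e, zero_smul, add_zero])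
    have hfc2 : f c2 = (1 - a⁻¹) • c2 + a⁻¹ • q := by
      have : a⁻¹ • (q + a • (c2 - f c2)) = a⁻¹ • c2 := by rw [hqz]
      rw [smul_add, smul_smul, inv_mul_cancel₀ ha, one_smul] at this
      rw [sub_smul, one_smul, ← this]; abel
    set e := 1 - a⁻¹
    have he : e ≠ 0 := fun e0 => by
      rw [e0, zero_smul, zero_add] at hfc2
      have h3 : f c2 = f (a⁻¹ • q) := by rw [map_smul, mem_Fx.mp hq, hfc2]
      exact hc2F (f.injective h3 ▸ Submodule.smul_mem _ _ hq)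
    rw [← heq] at hmem
    obtain ⟨q', hq', z', hz', hqz'⟩ := Submodule.mem_sup.mp hmem
    obtain ⟨b, rfl⟩ := Submodule.mem_span_singleton.mp hz'
    have happ : (t * f) c2 = f c2 + e • c := by
      show t (f c2) = _
      rw [ht', hfc2, map_add, map_smul, map_smul, h1, h2 q (Submodule.mem_sup_left hq)]
      simp
    rw [happ, hfc2] at hqz'
    have hbe : b * e ≠ 0 := mul_ne_zero (fun e0 => hc2F (by rwa [← hqz', e0, zero_smul, add_zero])) he
    have hc' : (b * e) • c = (b * a⁻¹ - 1) • c2 + (q' - (b * a⁻¹) • q) := by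
      rw [← sub_eq_zero]
      rw [← sub_eq_zero] at hqz'
      calc _ = -(q' + b • (c2 - (e • c2 + a⁻¹ • q + e • c)) - c2) := by simp only [e]; module
        _ = 0 := by rw [hqz', neg_zero]
    by_cases hb : b * a⁻¹ - 1 = 0
    · rw [hb, zero_smul, zero_add] at hc'
      refine hcF ?_
      rw [← inv_smul_smul₀ hbe c, hc']
      exact Submodule.smul_mem _ _ (Submodule.sub_mem _ hq' (Submodule.smul_mem _ _ hq))
    · refine hc2 ?_
      rw [← inv_smul_smul₀ hb c2, eq_sub_of_add_eq hc'.symm]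
      exact Submodule.smul_mem _ _ (Submodule.sub_mem _
        (Submodule.smul_mem _ _ (Submodule.mem_sup_right (Submodule.mem_span_singleton_self c)))
        (Submodule.mem_sup_left (Submodule.sub_mem _ hq' (Submodule.smul_mem _ _ hq)))))
  exact Or.inr ⟨t2 * t, mul_mem ht2 ht, by rw [mul_assoc]; exact hP2, by rw [mul_assoc, heq]; exact hlt2⟩

end SL

end CfsgLib.McL
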