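/-
Groups over a prime field generated by transvections, without a normal p-subgroup.
-/
import Mathlib
import Cfsg.Agent.Lib.RootSub.McL.Gen
import Cfsg.Agent.Lib.Basic
import Cfsg.Agent.S0199

set_option autoImplicit false

namespace CfsgLib.McL

variable {p : ℕ} [Fact p.Prime] {V : Type*} [AddCommGroup V] [Module (ZMod p) V]

local notation "E" => V ≃ₗ[ZMod p] V

theorem tv_pow {g : E} {x : V} {θ : Module.Dual (ZMod p) V} (hθ : θ x = 0) (h : ∀ y, g y = y + θ y • x) :
    ∀ (n : ℕ) y, (g ^ n) y = y + ((n : ZMod p) * θ y) • x := by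
  intro n
  induction n with
  | zero => intro y; simp
  | succ n ih =>
    intro y
    rw [pow_succ]
    show (g ^ n) (g y) = _
    rw [ih, h, map_add, map_smul, hθ, smul_zero, add_zero]
    push_cast
    module

theorem tv_smul {H : Subgroup E} (c : ZMod p) (x : V) (θ : Module.Dual (ZMod p) V) (h : Tv H x θ) :
    Tv H x (c • θ) := by
  obtain ⟨h0, g, hg, hv⟩ := h
  refine ⟨by simp [h0], g ^ c.val, pow_mem hg _, fun y => ?_⟩
  rw [tv_pow h0 hv, ZMod.natCast_zmod_val]; rfl

variable [Finite V]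

/-- The unipotent stabiliser of a flag of two subspaces. -/
def flag (L0 L : Submodule (ZMod p) V) (h : L0 ≤ L) : Subgroup E where
  carrier := {f | (∀ v, f v - v ∈ L) ∧ (∀ v ∈ L, f v - v ∈ L0) ∧ ∀ v ∈ L0, f v = v}
  one_mem' := by simp
  mul_mem' := by
    rintro f g ⟨f1, f2, f3⟩ ⟨g1, g2, g3⟩
    have e : ∀ v, (f * g) v - v = (f (g v - v) - (g v - v)) + (g v - v) + (f v - v) := fun v => by
      show f (g v) - v = _
      rw [map_sub]; abel
    refine ⟨fun v => ?_, fun v hv => ?_, fun v hv => ?_⟩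
    · rw [e]; exact L.add_mem (L.add_mem (h (f2 _ (g1 v))) (g1 v)) (f1 v)
    · rw [e]; exact L0.add_mem (L0.add_mem (f2 _ (g1 v)) (g2 v hv)) (f2 v hv)
    · show f (g v) = v; rw [g3 v hv, f3 v hv]
  inv_mem' := by
    rintro f ⟨f1, f2, f3⟩
    have e : ∀ v, f⁻¹ v - v = -(f (f⁻¹ v) - f⁻¹ v) := fun v => by
      rw [show f (f⁻¹ v) = v from f.apply_symm_apply v]; abel
    have hL : ∀ v ∈ L, f⁻¹ v ∈ L := fun v hv => by
      have h1 := L.neg_mem (f1 (f⁻¹ v))
      rw [← e v] at h1
      simpa using L.add_mem h1 hv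
    refine ⟨fun v => e v ▸ L.neg_mem (f1 _), fun v hv => e v ▸ L0.neg_mem (f2 _ (hL v hv)), fun v hv => ?_⟩
    conv_lhs => rw [← f3 v hv]
    exact f.symm_apply_apply v

omit [Finite V] in
theorem isPGroup_flag (hp : Odd p) {L0 L : Submodule (ZMod p) V} (h : L0 ≤ L) : IsPGroup p (flag L0 L h) := by
  rintro ⟨f, f1, f2, f3⟩
  refine ⟨1, Subtype.ext (LinearEquiv.ext fun v => ?_)⟩
  rw [pow_one]
  show (f ^ p) v = v
  set N := fun v => f v - v with hN
  have hfN : f (N v) = N v + N (N v) := by simp [hN]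
  have hfNN : f (N (N v)) = N (N v) := f3 _ (f2 _ (f1 v))
  have hpow : ∀ n : ℕ, (f ^ n) v = v + (n : ZMod p) • N v + (n.choose 2 : ZMod p) • N (N v) := by
    intro n
    induction n with
    | zero => simp
    | succ n ih =>
      rw [pow_succ']
      show f ((f ^ n) v) = _
      rw [ih, map_add, map_add, map_smul, map_smul, hfN, hfNN, show f v = v + N v by simp [hN],
        Nat.choose_succ_succ' n 1, Nat.choose_one_right]
      push_cast
      module
  have h2 : (p.choose 2 : ZMod p) = 0 := by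
    rw [ZMod.natCast_eq_zero_iff]
    exact (Fact.out : p.Prime).dvd_choose_self two_ne_zero
      (lt_of_le_of_ne (Fact.out : p.Prime).two_le fun e => absurd (e ▸ hp) (by decide))
  rw [hpow, h2, ZMod.natCast_self]; simp

theorem tsys (hp : Odd p) {H : Subgroup E} (hO : Cfsg.pCore p ↥H = ⊥) : TSys (Tv H) where
  null h := h.1
  zl θ := ⟨map_zero θ, 1, one_mem _, fun y => by simp⟩
  zr x := ⟨rfl, 1, one_mem _, fun y => by simp⟩
  addθ := by
    rintro x θ η ⟨h1, g, hg, hv⟩ ⟨h1', g', hg', hv'⟩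
    refine ⟨by simp [h1, h1'], g * g', mul_mem hg hg', fun y => ?_⟩
    show g (g' y) = _
    rw [hv', hv, map_add, map_smul, h1, smul_zero, add_zero, LinearMap.add_apply, add_smul]
    abel
  addx := by
    rintro x y θ ⟨h1, g, hg, hv⟩ ⟨h1', g', hg', hv'⟩
    refine ⟨by simp [h1, h1'], g * g', mul_mem hg hg', fun z => ?_⟩
    show g (g' z) = _
    rw [hv', hv, map_add, map_smul, h1', smul_zero, add_zero, smul_add]
    abel
  smulθ c {x θ} h := tv_smul c x θ h
  smulx := by
    intro c x θ h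
    obtain ⟨h1, g, hg, hv⟩ := tv_smul c x θ h
    obtain ⟨h0, -⟩ := h
    refine ⟨by rw [map_smul, h0, smul_zero], g, hg, fun y => ?_⟩
    rw [hv, LinearMap.smul_apply, smul_eq_mul, smul_smul, mul_comm]
  conj := by
    rintro x θ y η ⟨h1, g, hg, hv⟩ ⟨h1', g', hg', hv'⟩
    refine ⟨?_, g * g' * g⁻¹, mul_mem (mul_mem hg hg') (inv_mem hg), fun z => ?_⟩
    · simp only [LinearMap.sub_apply, LinearMap.smul_apply, map_add, map_smul, smul_eq_mul, h1, h1']
      ring
    · obtain ⟨w, rfl⟩ : ∃ w, g w = z := ⟨g.symm z, g.apply_symm_apply z⟩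
      show g (g' (g⁻¹ (g w))) = _
      rw [show g⁻¹ (g w) = w from g.symm_apply_apply w, hv', map_add, map_smul, hv, hv]
      simp only [LinearMap.sub_apply, LinearMap.smul_apply, map_add, map_smul, smul_eq_mul, h1]
      module
  cancel := by
    rintro x w θ η ⟨-, g1, hg1, hv1⟩ ⟨-, g2, hg2, hv2⟩ h3 a b c d
    obtain ⟨-, g3, hg3, hv3⟩ := tv_smul (-2 : ZMod p) x θ h3
    have h4 : Tv H w ((2 : ZMod p) • η) := by
      refine ⟨by simp [d], g1 * g2 * g3, mul_mem (mul_mem hg1 hg2) hg3, fun y => ?_⟩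
      show g1 (g2 (g3 y)) = _
      rw [hv3, hv2, hv1]
      simp only [LinearMap.add_apply, LinearMap.neg_apply, LinearMap.smul_apply, map_add, map_smul, map_neg,
        smul_eq_mul, a, b, c, d]
      module
    have h2 : (2 : ZMod p) ≠ 0 := by
      haveI : Fact (2 < p) := ⟨lt_of_le_of_ne (Fact.out : p.Prime).two_le fun e => absurd (e ▸ hp) (by decide)⟩
      exact Ring.two_ne_zero (by rw [ZMod.ringChar_zmod_n]; exact (Fact.out : 2 < p).ne')
    simpa [smul_smul, h2] using tv_smul (2 : ZMod p)⁻¹ w _ h4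
  opp := by
    rintro x θ ⟨h1, g, hg, hv⟩ hx hθ
    by_contra hno
    push Not at hno
    haveI : Finite E := Finite.of_injective _ DFunLike.coe_injective
    haveI : Finite ↥H := inferInstance
    have hgp : ∀ n, (g ^ n : E) ∈ H := fun n => pow_mem hg n
    set X : Subgroup ↥H := Subgroup.zpowers ⟨g, hg⟩
    have hkey : ∀ h : ↥H, IsPGroup p ↥(X ⊔ X.map (MulAut.conj h).toMonoidHom) := by
      rintro ⟨h, hh⟩
      set y := h x
      set η : Module.Dual (ZMod p) V := θ ∘ₗ (h.symm : V →ₗ[ZMod p] V)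
      set g' := h * g * h⁻¹ with hg'
      have hv' : ∀ z, g' z = z + η z • y := fun z => by
        show h (g (h⁻¹ z)) = _
        rw [hv, map_add, map_smul, show h (h⁻¹ z) = z from h.apply_symm_apply z]
        rfl
      have hη : η y = 0 := by show θ (h.symm (h x)) = 0; rw [h.symm_apply_apply, h1]
      have hTv : Tv H y η := ⟨hη, g', mul_mem (mul_mem hh hg) (inv_mem hh), hv'⟩
      have hdec : θ y = 0 ∨ η x = 0 := or_iff_not_imp_left.mpr fun h0 => hno y η hTv h0
      set L := Submodule.span (ZMod p) ({x, y} : Set V)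
      have hxL : x ∈ L := Submodule.subset_span (by simp)
      have hyL : y ∈ L := Submodule.subset_span (by simp)
      suffices H2 : ∃ L0, ∃ hle : L0 ≤ L, g ∈ flag L0 L hle ∧ g' ∈ flag L0 L hle by
        obtain ⟨L0, hle, q1, q2⟩ := H2
        have hK : IsPGroup p ↥((flag L0 L hle).subgroupOf H) :=
          (isPGroup_flag hp hle).comap_of_injective H.subtype H.subtype_injective
        refine hK.to_le (sup_le ?_ ?_)
        · rw [Subgroup.zpowers_le]; exact q1
        · rw [MonoidHom.map_zpowers, Subgroup.zpowers_le]; exact q2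
      have tail : ∀ L0 : Submodule (ZMod p) V, ∀ hle : L0 ≤ L, (∀ v ∈ L, θ v • x ∈ L0 ∧ η v • y ∈ L0) →
          (∀ v ∈ L0, θ v • x = 0 ∧ η v • y = 0) → g ∈ flag L0 L hle ∧ g' ∈ flag L0 L hle := fun L0 hle a b =>
        ⟨⟨fun v => by rw [hv, add_sub_cancel_left]; exact L.smul_mem _ hxL,
          fun v hv0 => by rw [hv, add_sub_cancel_left]; exact (a v hv0).1,
          fun v hv0 => by rw [hv, (b v hv0).1, add_zero]⟩,
         ⟨fun v => by rw [hv', add_sub_cancel_left]; exact L.smul_mem _ hyL,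
          fun v hv0 => by rw [hv', add_sub_cancel_left]; exact (a v hv0).2,
          fun v hv0 => by rw [hv', (b v hv0).2, add_zero]⟩⟩
      rcases hdec with h0 | h0
      · refine ⟨Submodule.span (ZMod p) {y}, (Submodule.span_singleton_le_iff_mem _ _).mpr hyL,
          tail _ _ (fun v hv0 => ⟨?_, Submodule.smul_mem _ _ (Submodule.mem_span_singleton_self y)⟩) fun v hv0 => ?_⟩
        · obtain ⟨a, b, rfl⟩ := Submodule.mem_span_pair.mp hv0
          simp [h1, h0]
        · obtain ⟨a, rfl⟩ := Submodule.mem_span_singleton.mp hv0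
          simp [hη, h0]
      · refine ⟨Submodule.span (ZMod p) {x}, (Submodule.span_singleton_le_iff_mem _ _).mpr hxL,
          tail _ _ (fun v hv0 => ⟨Submodule.smul_mem _ _ (Submodule.mem_span_singleton_self x), ?_⟩) fun v hv0 => ?_⟩
        · obtain ⟨a, b, rfl⟩ := Submodule.mem_span_pair.mp hv0
          simp [hη, h0]
        · obtain ⟨a, rfl⟩ := Submodule.mem_span_singleton.mp hv0
          simp [h1, h0]
    have hX : IsPGroup p X := by
      have := hkey 1
      exact this.to_le le_sup_left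
    obtain ⟨N, hN, hNp, hXN⟩ := Cfsg.Agent.S0199.result X hX hkey
    haveI := hN
    have hle : X ≤ ⊥ := hO ▸ hXN.trans (CfsgLib.le_pCore hNp)
    have hg1 : g = 1 := congrArg Subtype.val (Subgroup.mem_bot.mp (hle (Subgroup.mem_zpowers _)))
    refine hθ (LinearMap.ext fun z => ?_)
    have := hv z
    rw [hg1] at this
    simpa [hx] using this

/-- An element of order `p` fixing a hyperplane is a transvection. -/
theorem exists_tv {t : E} (ho : orderOf t = p)
    (hk : Module.finrank (ZMod p) ↥(LinearMap.ker ((t : V →ₗ[ZMod p] V) - LinearMap.id)) + 1 =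
      Module.finrank (ZMod p) V) :
    ∃ (x : V) (θ : Module.Dual (ZMod p) V), x ≠ 0 ∧ θ ≠ 0 ∧ θ x = 0 ∧ ∀ y, t y = y + θ y • x := by
  have hne : Fx t ≠ ⊤ := fun e => by
    change Module.finrank (ZMod p) (Fx t) + 1 = _ at hk
    rw [e, finrank_top] at hk; omega
  obtain ⟨v, hv⟩ := exists_outside hne
  obtain ⟨θ, h1, h2⟩ := exists_dual hv
  have htop : Fx t ⊔ Submodule.span (ZMod p) {v} = ⊤ := by
    refine Submodule.eq_top_of_finrank_eq ?_
    have h := Submodule.finrank_lt_finrank_of_lt (show Fx t < Fx t ⊔ Submodule.span (ZMod p) {v} from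
      lt_of_le_of_ne le_sup_left fun e => hv (e ▸ Submodule.mem_sup_right (Submodule.mem_span_singleton_self v)))
    have := Submodule.finrank_le (Fx t ⊔ Submodule.span (ZMod p) {v})
    change Module.finrank (ZMod p) (Fx t) + 1 = _ at hk
    omega
  have hx : t v - v ≠ 0 := fun e => hv (mem_Fx.mpr (sub_eq_zero.mp e))
  have hform : ∀ y, t y = y + θ y • (t v - v) := by
    intro y
    obtain ⟨z, hz, w, hw, rfl⟩ := Submodule.mem_sup.mp (htop ▸ Submodule.mem_top : y ∈ Fx t ⊔ Submodule.span (ZMod p) {v})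
    obtain ⟨a, rfl⟩ := Submodule.mem_span_singleton.mp hw
    rw [map_add, map_add, map_smul, map_smul, mem_Fx.mp hz, h2 z hz, h1, smul_eq_mul, mul_one, zero_add, smul_sub]
    abel
  refine ⟨t v - v, θ, hx, fun e => by simp [e] at h1, ?_, hform⟩
  set x := t v - v
  have hiter : ∀ n : ℕ, (t ^ n) x = (1 + θ x) ^ n • x := by
    intro n
    induction n with
    | zero => simp
    | succ n ih =>
      rw [pow_succ']
      show t ((t ^ n) x) = _
      rw [ih, map_smul, hform x, pow_succ, mul_smul, add_smul, one_smul]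
  have h3 := hiter p
  have h6 := pow_orderOf_eq_one t
  rw [ho] at h6
  rw [h6, ZMod.pow_card] at h3
  have h4 : (θ x) • x = 0 := by
    have h5 : (1 + θ x) • x = x := h3.symm
    rw [add_smul, one_smul] at h5
    exact add_eq_left.mp h5
  exact (smul_eq_zero.mp h4).resolve_right hx

end CfsgLib.McL
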