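/-
The decomposition of a transvection generated group.
-/
import Mathlib
import Cfsg.Agent.Lib.RootSub.McL.Group

set_option autoImplicit false

namespace CfsgLib.McL

variable {p : ℕ} [Fact p.Prime] {V : Type*} [AddCommGroup V] [Module (ZMod p) V] [Finite V]

local notation "E" => V ≃ₗ[ZMod p] V

/-- Automorphisms fixing `U` pointwise and moving vectors along `W`. -/
def blockGrp (W U : Submodule (ZMod p) V) : Subgroup E where
  carrier := {f | (∀ u ∈ U, f u = u) ∧ ∀ z, f z - z ∈ W}
  one_mem' := by simp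
  mul_mem' := by
    rintro f g ⟨f1, f2⟩ ⟨g1, g2⟩
    refine ⟨fun u hu => by show f (g u) = u; rw [g1 u hu, f1 u hu], fun z => ?_⟩
    show f (g z) - z ∈ W
    rw [show f (g z) - z = (f (g z) - g z) + (g z - z) by abel]
    exact W.add_mem (f2 _) (g2 z)
  inv_mem' := by
    rintro f ⟨f1, f2⟩
    refine ⟨fun u hu => ?_, fun z => ?_⟩
    · conv_lhs => rw [← f1 u hu]
      exact f.symm_apply_apply u
    · have := W.neg_mem (f2 (f⁻¹ z))
      rwa [show f (f⁻¹ z) = z from f.apply_symm_apply z, neg_sub] at this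

/-- The transvections of a group attached to a block. -/
def blockTv (H : Subgroup E) (W U : Submodule (ZMod p) V) : Subgroup E :=
  Subgroup.closure {g | g ∈ H ∧ ∃ (x : V) (θ : Module.Dual (ZMod p) V),
    x ∈ W ∧ (∀ u ∈ U, θ u = 0) ∧ θ x = 0 ∧ ∀ y, g y = y + θ y • x}

variable {H : Subgroup (V ≃ₗ[ZMod p] V)} {W U : Submodule (ZMod p) V}

omit [Finite V] in
theorem blockTv_le : blockTv H W U ≤ H := (Subgroup.closure_le _).mpr fun _ hg => hg.1

omit [Finite V] in
theorem blockTv_le_blockGrp : blockTv H W U ≤ blockGrp W U := by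
  refine (Subgroup.closure_le _).mpr ?_
  rintro g ⟨-, x, θ, hx, hθ, -, hv⟩
  exact ⟨fun u hu => by rw [hv, hθ u hu, zero_smul, add_zero], fun z => by
    rw [hv, add_sub_cancel_left]; exact W.smul_mem _ hx⟩

omit [Finite V] in
theorem tv_blockTv {x : V} {θ : Module.Dual (ZMod p) V} (hx : x ∈ W) (hθ : ∀ u ∈ U, θ u = 0) (h : Tv H x θ) :
    Tv (blockTv H W U) x θ := by
  obtain ⟨h0, g, hg, hv⟩ := h
  exact ⟨h0, g, Subgroup.subset_closure ⟨hg, x, θ, hx, hθ, h0, hv⟩, hv⟩

omit [Finite V] in
theorem apply_mem_block {f : E} (hf : f ∈ blockGrp W U) {w : V} (hw : w ∈ W) : f w ∈ W := by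
  simpa using W.add_mem (hf.2 w) hw

/-- The action of a group on an invariant subspace. -/
noncomputable def restrictHom (K : Subgroup E) (h : ∀ f ∈ K, W.map (f : V →ₗ[ZMod p] V) = W) :
    ↥K →* (↥W ≃ₗ[ZMod p] ↥W) where
  toFun f := f.1.ofSubmodules W W (h f.1 f.2)
  map_one' := LinearEquiv.ext fun v => Subtype.ext rfl
  map_mul' f g := LinearEquiv.ext fun v => Subtype.ext rfl

omit [Finite V] in
theorem map_eq_of_mem {K : Subgroup E} (hle : K ≤ blockGrp W U) {f : E} (hf : f ∈ K) :
    W.map (f : V →ₗ[ZMod p] V) = W := by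
  refine le_antisymm ?_ fun w hw => ⟨f⁻¹ w, apply_mem_block (hle (inv_mem hf)) hw, f.apply_symm_apply w⟩
  rintro _ ⟨w, hw, rfl⟩
  exact apply_mem_block (hle hf) hw

/-- A block group induces the special linear or the symplectic group. -/
theorem block_range (hS : TSys (Tv H)) (hB : Block (Tv H) W U) :
    ∃ ρ : ↥(blockTv H W U) →* (↥W ≃ₗ[ZMod p] ↥W),
      (∀ (h : ↥(blockTv H W U)) (v : ↥W), ((ρ h v : ↥W) : V) = (h : E) (v : V)) ∧
      ((ρ.range : Set (↥W ≃ₗ[ZMod p] ↥W)) = {f : ↥W ≃ₗ[ZMod p] ↥W | LinearMap.det (f : ↥W →ₗ[ZMod p] ↥W) = 1} ∨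
        ∃ B : LinearMap.BilinForm (ZMod p) ↥W, B.IsAlt ∧ B.Nondegenerate ∧
          (ρ.range : Set (↥W ≃ₗ[ZMod p] ↥W)) = {f : ↥W ≃ₗ[ZMod p] ↥W | ∀ x y, B (f x) (f y) = B x y}) := by
  have hc : IsCompl W U := hB.classical.compl
  set e := Submodule.prodEquivOfIsCompl W U hc with he
  refine ⟨restrictHom _ fun f hf => map_eq_of_mem blockTv_le_blockGrp hf, fun h v => rfl, ?_⟩
  set ρ := restrictHom (blockTv H W U) fun f hf => map_eq_of_mem blockTv_le_blockGrp hf
  -- extension of an automorphism of the block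
  have ext1 : ∀ g : ↥W ≃ₗ[ZMod p] ↥W, ∃ f : E, f ∈ blockGrp W U ∧ (∀ v : ↥W, f v = g v) ∧
      LinearMap.det (f : V →ₗ[ZMod p] V) = LinearMap.det (g : ↥W →ₗ[ZMod p] ↥W) := by
    intro g
    refine ⟨e.symm.trans ((g.prodCongr (LinearEquiv.refl (ZMod p) ↥U)).trans e), ⟨fun u hu => ?_, fun z => ?_⟩,
      fun v => ?_, ?_⟩
    · have h1 : e.symm u = (0, ⟨u, hu⟩) := by
        rw [LinearEquiv.symm_apply_eq]; simp [he, Submodule.coe_prodEquivOfIsCompl']
      show e ((g.prodCongr (LinearEquiv.refl (ZMod p) ↥U)) (e.symm u)) = u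
      rw [h1]
      simp [he, Submodule.coe_prodEquivOfIsCompl']
    · obtain ⟨⟨a, b⟩, rfl⟩ := e.surjective z
      simp [he, Submodule.coe_prodEquivOfIsCompl']
      exact W.sub_mem (g a).2 a.2
    · have h1 : e.symm (v : V) = (v, 0) := by
        rw [LinearEquiv.symm_apply_eq]; simp [he, Submodule.coe_prodEquivOfIsCompl']
      simp [h1, he, Submodule.coe_prodEquivOfIsCompl']
    · have h1 : ((e.symm.trans ((g.prodCongr (LinearEquiv.refl (ZMod p) ↥U)).trans e) : E) : V →ₗ[ZMod p] V) =
          (e : (↥W × ↥U) →ₗ[ZMod p] V) ∘ₗ (LinearMap.prodMap (g : ↥W →ₗ[ZMod p] ↥W) LinearMap.id) ∘ₗ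
            (e.symm : V →ₗ[ZMod p] (↥W × ↥U)) := LinearMap.ext fun z => rfl
      rw [h1, LinearMap.det_conj, LinearMap.det_prodMap, LinearMap.det_id, mul_one]
  have same : ∀ {f f' : E}, f ∈ blockGrp W U → f' ∈ blockGrp W U → (∀ v : ↥W, f v = f' v) → f = f' := by
    intro f f' hf hf' h
    refine LinearEquiv.ext fun z => ?_
    obtain ⟨a, ha, u, hu, rfl⟩ := split_of_isCompl hc z
    rw [map_add, map_add, hf.1 u hu, hf'.1 u hu, h ⟨a, ha⟩]
  -- range of `ρ` described by a property of the extensions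
  have range_eq : ∀ P : E → Prop, (∀ f ∈ blockTv H W U, P f) → (∀ f ∈ blockGrp W U, P f → f ∈ blockTv H W U) →
      (ρ.range : Set (↥W ≃ₗ[ZMod p] ↥W)) = {g | ∃ f ∈ blockGrp W U, (∀ v : ↥W, f v = g v) ∧ P f} := by
    intro P h1 h2
    ext g
    constructor
    · rintro ⟨⟨f, hf⟩, rfl⟩
      exact ⟨f, blockTv_le_blockGrp hf, fun v => rfl, h1 f hf⟩
    · rintro ⟨f, hf, hv, hP⟩
      exact ⟨⟨f, h2 f hf hP⟩, LinearEquiv.ext fun v => Subtype.ext (hv v)⟩
  rcases hB with h | ⟨B, h, hd, hpure⟩
  · left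
    have hfull : ∀ x ∈ W, Full (Tv (blockTv H W U)) U x := fun x hx θ hθU hθ =>
      tv_blockTv hx hθU (h.full x hx θ hθU hθ)
    rw [range_eq (fun f => LinearMap.det (f : V →ₗ[ZMod p] V) = 1) (fun f hf => ?_)
      fun f hf hd => sl_mem hfull hc hf.1 hf.2 hd]
    · ext g
      constructor
      · rintro ⟨f, hf, hv, hdet⟩
        obtain ⟨f', hf', hv', hdet'⟩ := ext1 g
        show LinearMap.det _ = 1
        rw [← hdet', ← same hf hf' fun v => (hv v).trans (hv' v).symm]
        exact hdet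
      · intro hg
        obtain ⟨f', hf', hv', hdet'⟩ := ext1 g
        exact ⟨f', hf', hv', hdet'.trans hg⟩
    · induction hf using Subgroup.closure_induction with
      | mem g hg =>
        obtain ⟨-, x, θ, -, -, hθ, hv⟩ := hg
        rw [show (g : V →ₗ[ZMod p] V) = LinearMap.transvection θ x from LinearMap.ext fun y => by
          rw [LinearMap.transvection.apply]; exact hv y, LinearMap.transvection.det, hθ, add_zero]
      | one => exact LinearMap.det_id
      | mul a b _ _ ha hb =>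
        show LinearMap.det ((a : V →ₗ[ZMod p] V) * (b : V →ₗ[ZMod p] V)) = 1
        rw [map_mul, ha, hb, one_mul]
      | inv a _ ha =>
        have : LinearMap.det ((a⁻¹ : E) : V →ₗ[ZMod p] V) * LinearMap.det (a : V →ₗ[ZMod p] V) = 1 := by
          rw [← map_mul, show ((a⁻¹ : E) : V →ₗ[ZMod p] V) * (a : V →ₗ[ZMod p] V) = 1 from
            LinearMap.ext fun y => a.symm_apply_apply y, map_one]
        rwa [ha, mul_one] at this
  · right
    have hcore : SpCore (Tv (blockTv H W U)) W U B :=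
      ⟨h.compl, h.alt, h.rad, h.nondeg, fun x hx => tv_blockTv hx (fun u hu => h.kills x hu) (h.mem x hx)⟩
    refine ⟨B.compl₁₂ W.subtype W.subtype, fun v => h.alt v, ⟨fun v hv => ?_, fun v hv => ?_⟩, ?_⟩
    · by_contra hne
      obtain ⟨m, hm, hm'⟩ := h.exists_ne v.2 (fun e => hne (Subtype.ext e))
      exact hm' (hv ⟨m, hm⟩)
    · by_contra hne
      obtain ⟨m, hm, hm'⟩ := h.exists_ne v.2 (fun e => hne (Subtype.ext e))
      exact hm' (by rw [alt_skew h.alt]; exact neg_eq_zero.mpr (hv ⟨m, hm⟩))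
    rw [range_eq (fun f => ∀ a b, B (f a) (f b) = B a b) (fun f hf => ?_)
      fun f hf hb => sp_mem (fun c x θ => tv_smul c x θ) hcore hf.1 hf.2 hb]
    · ext g
      constructor
      · rintro ⟨f, -, hv, hb⟩ x y
        show B (g x : V) (g y : V) = B (x : V) (y : V)
        rw [← hv, ← hv, hb]
      · intro hg
        obtain ⟨f, hf, hv, -⟩ := ext1 g
        refine ⟨f, hf, hv, fun a b => ?_⟩
        obtain ⟨a1, ha1, a0, ha0, rfl⟩ := split_of_isCompl hc a
        obtain ⟨b1, hb1, b0, hb0, rfl⟩ := split_of_isCompl hc b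
        rw [map_add f, map_add f, hf.1 a0 ha0, hf.1 b0 hb0, hv ⟨a1, ha1⟩, hv ⟨b1, hb1⟩]
        simp only [map_add, LinearMap.add_apply, h.rad a0 ha0, h.kills _ hb0, LinearMap.zero_apply, add_zero]
        exact hg ⟨a1, ha1⟩ ⟨b1, hb1⟩
    · induction hf using Subgroup.closure_induction with
      | mem g hg =>
        obtain ⟨hgH, x, θ, hx, hθU, hθ, hv⟩ := hg
        intro a b
        by_cases hx0 : x = 0
        · simp [hv, hx0]
        obtain ⟨c, rfl⟩ := hpure x θ ⟨hθ, g, hgH, hv⟩ hx hx0 hθU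
        simp only [hv, LinearMap.smul_apply, smul_eq_mul, map_add, map_smul, LinearMap.add_apply, h.alt,
          alt_skew h.alt a x]
        ring
      | one => intro a b; rfl
      | mul f g _ _ hf hg => intro a b; exact (hf _ _).trans (hg a b)
      | inv f _ hf =>
        intro a b
        have := hf (f⁻¹ a) (f⁻¹ b)
        rw [show f (f⁻¹ a) = a from f.apply_symm_apply a, show f (f⁻¹ b) = b from f.apply_symm_apply b] at this
        exact this.symm

/-- The conclusion for a family of blocks covering all transvections. -/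
theorem decomp_of_blocks (hS : TSys (Tv H)) (T : Set E) (hHT : H = Subgroup.closure T) {n : ℕ}
    (W : Fin n → Submodule (ZMod p) V) (U : Fin n → Submodule (ZMod p) V) (hB : ∀ i, Block (Tv H) (W i) (U i))
    (hord : ∀ i j, i ≠ j → W i ≤ U j) (hcov : ∀ t ∈ T, ∃ i, t ∈ blockTv H (W i) (U i)) :
    ∃ W0 : Submodule (ZMod p) V, DirectSum.IsInternal (Fin.cons W0 W) ∧
      (∀ h ∈ H, ∀ i, ((Fin.cons W0 W : Fin (n + 1) → _) i).map (h : V →ₗ[ZMod p] V) = (Fin.cons W0 W : Fin (n + 1) → _) i) ∧
      (∀ j, blockTv H (W j) (U j) ≤ H ∧ ((blockTv H (W j) (U j)).subgroupOf H).Normal) ∧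
      (⨆ j, blockTv H (W j) (U j)) = H ∧
      (∀ j, blockTv H (W j) (U j) ⊓ (⨆ j' ∈ {j' : Fin n | j' ≠ j}, blockTv H (W j') (U j')) = ⊥) ∧
      (∀ j j', j ≠ j' → ∀ a ∈ blockTv H (W j) (U j), ∀ b ∈ blockTv H (W j') (U j'), a * b = b * a) ∧
      (∀ j, ∀ h ∈ blockTv H (W j) (U j), ∀ i : Fin (n + 1), i ≠ j.succ →
        ∀ v ∈ (Fin.cons W0 W : Fin (n + 1) → _) i, h v = v) := by
  set K := fun j => blockTv H (W j) (U j) with hK
  have hKg : ∀ j, K j ≤ blockGrp (W j) (U j) := fun j => blockTv_le_blockGrp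
  have hc : ∀ j, IsCompl (W j) (U j) := fun j => (hB j).classical.compl
  set W0 := ⨅ j, U j with hW0
  have hfixcons : ∀ j, ∀ h ∈ K j, ∀ i : Fin (n + 1), i ≠ j.succ →
      ∀ v ∈ (Fin.cons W0 W : Fin (n + 1) → _) i, h v = v := by
    intro j h hh
    refine Fin.cases ?_ fun i => ?_
    · intro _ v hv
      exact (hKg j hh).1 v ((Submodule.mem_iInf _).mp hv j)
    · intro hij v hv
      simp only [Fin.cons_succ] at hv
      exact (hKg j hh).1 v (hord i j (fun e => hij (by rw [e])) hv)
  have hcomm : ∀ j j', j ≠ j' → ∀ a ∈ K j, ∀ b ∈ K j', a * b = b * a := by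
    intro j j' hne a ha b hb
    refine LinearEquiv.ext fun z => ?_
    show a (b z) = b (a z)
    have h1 : a (b z - z) = b z - z := (hKg j ha).1 _ (hord j' j hne.symm ((hKg j' hb).2 z))
    have h2 : b (a z - z) = a z - z := (hKg j' hb).1 _ (hord j j' hne ((hKg j ha).2 z))
    rw [map_sub, sub_eq_iff_eq_add] at h1 h2
    rw [h1, h2]; abel
  have hsup : (⨆ j, K j) = H := by
    refine le_antisymm (iSup_le fun j => blockTv_le) ?_
    rw [hHT, Subgroup.closure_le]
    intro t ht
    obtain ⟨i, hi⟩ := hcov t ht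
    exact Subgroup.mem_iSup_of_mem (S := K) i (by rw [← hHT] at *; exact hi)
  refine ⟨W0, ?_, fun h hh i => ?_, fun j => ⟨blockTv_le, ⟨fun a ha g => ?_⟩⟩, hsup, fun j => ?_, hcomm, hfixcons⟩
  · -- internal direct sum
    classical
    set Φ : V →ₗ[ZMod p] V := ∑ j, (W j).projection (U j) (hc j) with hΦ
    have hΦW : ∀ i, ∀ w ∈ W i, Φ w = w := fun i w hw => by
      rw [hΦ, LinearMap.sum_apply, Finset.sum_eq_single i (fun j _ hj => by
        exact (Submodule.projection_apply_eq_zero_iff (hc j)).mpr (hord i j (Ne.symm hj) hw))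
        (fun h => absurd (Finset.mem_univ i) h)]
      exact Submodule.projection_apply_left (hc i) ⟨w, hw⟩
    have hΦ0 : ∀ v ∈ W0, Φ v = 0 := fun v hv => by
      rw [hΦ, LinearMap.sum_apply]
      exact Finset.sum_eq_zero fun j _ =>
        (Submodule.projection_apply_eq_zero_iff (hc j)).mpr ((Submodule.mem_iInf _).mp hv j)
    rw [DirectSum.isInternal_submodule_iff_iSupIndep_and_iSup_eq_top]
    refine ⟨iSupIndep_def.mpr ?_, ?_⟩
    · refine Fin.cases ?_ fun i => ?_
      · rw [Submodule.disjoint_def]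
        intro v hv hv'
        have hle : (⨆ (j : Fin (n + 1)) (_ : j ≠ 0), (Fin.cons W0 W : Fin (n + 1) → _) j) ≤
            LinearMap.ker (Φ - LinearMap.id) := by
          refine iSup₂_le fun j hj => ?_
          obtain ⟨i, rfl⟩ := Fin.exists_succ_eq_of_ne_zero hj
          intro w hw
          simp only [Fin.cons_succ] at hw
          simp [hΦW i w hw]
        have h1 := hle hv'
        simp only [Fin.cons_zero] at hv
        simpa [hΦ0 v hv] using h1
      · have hle : (⨆ (j : Fin (n + 1)) (_ : j ≠ i.succ), (Fin.cons W0 W : Fin (n + 1) → _) j) ≤ U i := by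
          refine iSup₂_le ?_
          refine Fin.cases ?_ fun j => ?_
          · intro _; simpa using iInf_le U i
          · intro hj; simpa using hord j i fun e => hj (by rw [e])
        simpa using (hc i).disjoint.mono_right hle
    · rw [eq_top_iff]
      intro z _
      rw [show z = (z - Φ z) + Φ z by abel]
      refine Submodule.add_mem _ (Submodule.mem_iSup_of_mem 0 ?_) ?_
      · simp only [Fin.cons_zero, hW0, Submodule.mem_iInf]
        intro j
        have h1 : (W j).projection (U j) (hc j) (Φ z) = (W j).projection (U j) (hc j) z := by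
          rw [hΦ, LinearMap.sum_apply, map_sum, Finset.sum_eq_single j (fun i _ hij => by
            exact (Submodule.projection_apply_eq_zero_iff (hc j)).mpr
              (hord i j hij (Submodule.projection_apply_mem (hc i) z)))
            (fun h => absurd (Finset.mem_univ j) h)]
          exact Submodule.projection_apply_left (hc j) ⟨_, Submodule.projection_apply_mem (hc j) z⟩
        exact (Submodule.projection_apply_eq_zero_iff (hc j)).mp (by rw [map_sub, h1, sub_self])
      · rw [hΦ, LinearMap.sum_apply]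
        exact Submodule.sum_mem _ fun j _ => Submodule.mem_iSup_of_mem j.succ (by
          simpa using Submodule.projection_apply_mem (hc j) z)
  · -- invariance
    rw [← hsup] at hh
    refine Subgroup.iSup_induction K
      (C := fun f => ((Fin.cons W0 W : Fin (n + 1) → _) i).map (f : V →ₗ[ZMod p] V) = (Fin.cons W0 W : Fin (n + 1) → _) i)
      hh (fun j f hf => ?_) (Submodule.map_id _) fun f g hf hg => ?_
    · by_cases hij : i = j.succ
      · subst hij
        simpa using map_eq_of_mem (hKg j) hf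
      · refine le_antisymm ?_ fun v hv => ⟨v, hv, hfixcons j f hf i hij v hv⟩
        rintro _ ⟨v, hv, rfl⟩
        show f v ∈ _
        rw [hfixcons j f hf i hij v hv]; exact hv
    · calc _ = (((Fin.cons W0 W : Fin (n + 1) → _) i).map (g : V →ₗ[ZMod p] V)).map (f : V →ₗ[ZMod p] V) := by
            rw [← Submodule.map_comp]; rfl
        _ = _ := by rw [hg, hf]
  · -- normality
    have hle : H ≤ Subgroup.normalizer (K j : Set E) := by
      rw [← hsup]
      refine iSup_le fun i => ?_
      by_cases hij : i = j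
      · subst hij; exact Subgroup.le_normalizer
      · intro b hb
        exact Subgroup.centralizer_le_normalizer _ (Subgroup.mem_centralizer_iff.mpr fun c hc =>
          (hcomm j i (Ne.symm hij) c hc b hb))
    exact (Subgroup.mem_normalizer_iff.mp (hle g.2) (a : E)).mp ha
  · -- trivial intersections
    let Fix : Subgroup E :=
      { carrier := {f | ∀ w ∈ W j, f w = w}
        one_mem' := fun w _ => rfl
        mul_mem' := fun {f g} hf hg w hw => by show f (g w) = w; rw [hg w hw, hf w hw]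
        inv_mem' := fun {f} hf w hw => by conv_lhs => rw [← hf w hw]
                                          exact f.symm_apply_apply w }
    have hle : (⨆ j' ∈ {j' : Fin n | j' ≠ j}, K j') ≤ Fix :=
      iSup₂_le fun j' hj' f hf w hw => (hKg j' hf).1 w (hord j j' (Ne.symm hj') hw)
    rw [eq_bot_iff]
    rintro a ⟨ha, ha'⟩
    refine Subgroup.mem_bot.mpr (LinearEquiv.ext fun z => ?_)
    obtain ⟨w, hw, u, hu, rfl⟩ := split_of_isCompl (hc j) z
    rw [map_add, hle ha' w hw, (hKg j ha).1 u hu]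
    rfl

end CfsgLib.McL
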